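import Groth.Agent.ToposFinLib.FP
import Mathlib.CategoryTheory.Limits.FunctorCategory.Basic
import Mathlib.Data.Finset.Lattice.Basic
/-!
Objects of finite presentation in a sheaf topos; filtered colimits of sheaves computed objectwise.
-/

set_option backward.isDefEq.respectTransparency false
set_option backward.isDefEq.respectTransparency.types false

universe u

open CategoryTheory CategoryTheory.Limits Opposite

namespace Groth.Agent.ToposFinLib

open ToposFin

variable {C : Type u} [SmallCategory C] {J : GrothendieckTopology C}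

theorem isFP_of_retract {X Y : Sh J} (i : X ⟶ Y) (p : Y ⟶ X) (h : i ≫ p = 𝟙 X) (hY : IsFP Y) : IsFP X := by
  refine isFP_iff.2 fun I _ _ D => ⟨fun k f g e => ?_, fun f => ?_⟩
  · obtain ⟨j, u, hu⟩ := (isFP_iff.1 hY I D).1 k (p ≫ f) (p ≫ g) (by simp [e])
    have : Epi p := SplitEpi.epi ⟨i, h⟩
    exact ⟨j, u, (cancel_epi p).1 (by simpa using hu)⟩
  · obtain ⟨k, f', hf⟩ := (isFP_iff.1 hY I D).2 (p ≫ f)
    exact ⟨k, i ≫ f', by rw [Category.assoc, hf, reassoc_of% h]⟩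

theorem isFP_coequalizer {X₀ X₁ : Sh J} (a b : X₁ ⟶ X₀) (h₀ : IsFP X₀) (h₁ : IsFP X₁) : IsFP (coequalizer a b) := by
  refine isFP_iff.2 fun I _ _ D => ⟨fun k f g e => ?_, fun f => ?_⟩
  · obtain ⟨j, u, hu⟩ := (isFP_iff.1 h₀ I D).1 k (coequalizer.π a b ≫ f) (coequalizer.π a b ≫ g) (by simp [e])
    exact ⟨j, u, (cancel_epi (coequalizer.π a b)).1 (by simpa using hu)⟩
  · obtain ⟨k, m, hm⟩ := (isFP_iff.1 h₀ I D).2 (coequalizer.π a b ≫ f)
    obtain ⟨j, u, hu⟩ := (isFP_iff.1 h₁ I D).1 k (a ≫ m) (b ≫ m)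
      (by rw [Category.assoc, Category.assoc, hm, coequalizer.condition_assoc])
    refine ⟨j, coequalizer.desc (m ≫ D.map u) (by simpa using hu), coequalizer.hom_ext ?_⟩
    simp [hm]

theorem isCoherent_sigma {κ : Type u} [Finite κ] (F : κ → Sh J) (h : ∀ k, IsCoherent (F k)) : IsCoherent (∐ F) :=
  have hc : IsColimit (Cofan.mk (∐ F) (Sigma.ι F)) := coproductIsCoproduct F
  ⟨isQC_of_finite_cov (cov_sigma_ι F) fun k => (h k).1,
    isQS_of_cov (cov_sigma_ι F) (fun k => (h k).2) fun k => isQCHom_inj hc k⟩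

theorem hasQC_of_hasCoherent (hE : HasCoherentGenerators J) : HasQCGenerators J :=
  hasQCGenerators_of_gen (fun _ h => h.1) (gen_of_hasCoherentGenerators hE)

/-- Every object is a filtered colimit of coequalizers of pairs of maps between coherent objects. -/
theorem exists_presentation (hE : HasCoherentGenerators J) (X : Sh J) :
    ∃ (I : Type u) (_ : SmallCategory I) (_ : IsFiltered I) (D : I ⥤ Sh J),
      (∀ i, ∃ (X₀ X₁ : Sh J) (a b : X₁ ⟶ X₀), IsCoherent X₀ ∧ IsCoherent X₁ ∧ D.obj i = coequalizer a b) ∧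
        Nonempty (X ≅ colimit D) := by
  classical
  obtain ⟨α, G, π, hG, hπ⟩ := gen_of_hasCoherentGenerators hE X
  choose β H ρ hH hρ using fun p : α × α => gen_of_hasCoherentGenerators hE (pullback (π p.1) (π p.2))
  let Λ : Type u := Σ p : α × α, β p
  let I : Type u := {p : Finset α × Finset Λ // ∀ l ∈ p.2, l.1.1 ∈ p.1 ∧ l.1.2 ∈ p.1}
  have : IsDirectedOrder I := ⟨fun x y => ⟨⟨(x.1.1 ∪ y.1.1, x.1.2 ∪ y.1.2), fun l hl => by
    rcases Finset.mem_union.1 hl with hl | hl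
    · exact ⟨Finset.mem_union_left _ (x.2 l hl).1, Finset.mem_union_left _ (x.2 l hl).2⟩
    · exact ⟨Finset.mem_union_right _ (y.2 l hl).1, Finset.mem_union_right _ (y.2 l hl).2⟩⟩,
    ⟨Finset.subset_union_left, Finset.subset_union_left⟩, ⟨Finset.subset_union_right, Finset.subset_union_right⟩⟩⟩
  have : Nonempty I := ⟨⟨(∅, ∅), by simp⟩⟩
  let a : ∀ s : I, (∐ fun l : s.1.2 => H l.1.1 l.1.2) ⟶ ∐ fun i : s.1.1 => G i.1 := fun s =>
    Sigma.desc fun l => ρ l.1.1 l.1.2 ≫ pullback.fst _ _ ≫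
      Sigma.ι (fun i : s.1.1 => G i.1) ⟨l.1.1.1, (s.2 l.1 l.2).1⟩
  let b : ∀ s : I, (∐ fun l : s.1.2 => H l.1.1 l.1.2) ⟶ ∐ fun i : s.1.1 => G i.1 := fun s =>
    Sigma.desc fun l => ρ l.1.1 l.1.2 ≫ pullback.snd _ _ ≫
      Sigma.ι (fun i : s.1.1 => G i.1) ⟨l.1.1.2, (s.2 l.1 l.2).2⟩
  let inc : ∀ {s t : I}, (s ≤ t) → ((∐ fun i : s.1.1 => G i.1) ⟶ ∐ fun i : t.1.1 => G i.1) := fun {s t} h =>
    Sigma.desc fun i => Sigma.ι (fun i : t.1.1 => G i.1) ⟨i.1, h.1 i.2⟩
  have hinc : ∀ {s t : I} (h : s ≤ t), a s ≫ inc h ≫ coequalizer.π (a t) (b t) =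
      b s ≫ inc h ≫ coequalizer.π (a t) (b t) := by
    intro s t h
    refine Sigma.hom_ext _ _ fun l => ?_
    have e := congrArg (fun z => Sigma.ι (fun l : t.1.2 => H l.1.1 l.1.2) ⟨l.1, h.2 l.2⟩ ≫ z)
      (coequalizer.condition (a t) (b t))
    simpa [a, b, inc] using e
  let D : I ⥤ Sh J :=
    { obj := fun s => coequalizer (a s) (b s)
      map := fun {s t} f => coequalizer.desc (inc (leOfHom f) ≫ coequalizer.π (a t) (b t)) (hinc (leOfHom f))
      map_id := fun s => coequalizer.hom_ext (Sigma.hom_ext _ _ fun i => by simp [inc])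
      map_comp := fun f g => coequalizer.hom_ext (Sigma.hom_ext _ _ fun i => by simp [inc]) }
  let q : ∀ s : I, D.obj s ⟶ X := fun s =>
    coequalizer.desc (Sigma.desc fun i : s.1.1 => π i.1) (Sigma.hom_ext _ _ fun l => by simp [a, b, pullback.condition])
  let c : Cocone D :=
    { pt := X
      ι := { app := q, naturality := fun s t f => coequalizer.hom_ext (Sigma.hom_ext _ _ fun i => by simp [D, q, inc]) } }
  let s1 : α → I := fun i => ⟨({i}, ∅), by simp⟩
  let m : ∀ i, G i ⟶ colimit D := fun i => Sigma.ι (fun k : (s1 i).1.1 => G k.1) ⟨i, by simp [s1]⟩ ≫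
    coequalizer.π (a (s1 i)) (b (s1 i)) ≫ colimit.ι D (s1 i)
  have hm0 : ∀ (s : I) (i : α) (hi : i ∈ s.1.1), m i =
      Sigma.ι (fun k : s.1.1 => G k.1) ⟨i, hi⟩ ≫ coequalizer.π (a s) (b s) ≫ colimit.ι D s := by
    intro s i hi
    have le : s1 i ≤ s := ⟨by simpa [s1] using hi, by simp [s1]⟩
    simp only [m]
    rw [← colimit.w D (homOfLE le)]
    simp [D, inc]
  obtain ⟨h, hh⟩ := exists_glue hπ m fun i j => (hρ (i, j)) _ _ _ fun l => by
    let s : I := ⟨({i, j}, {⟨(i, j), l⟩}), by simp⟩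
    rw [hm0 s i (by simp [s]), hm0 s j (by simp [s])]
    have e := congrArg (fun z => Sigma.ι (fun l : s.1.2 => H l.1.1 l.1.2) ⟨⟨(i, j), l⟩, by simp [s]⟩ ≫ z ≫ colimit.ι D s)
      (coequalizer.condition (a s) (b s))
    simpa [a, b] using e
  refine ⟨I, inferInstance, inferInstance, D, fun s => ⟨_, _, a s, b s, isCoherent_sigma _ fun i => hG i.1,
    isCoherent_sigma _ fun l => hH l.1.1 l.1.2, rfl⟩, ⟨⟨h, colimit.desc D c, hπ _ _ _ fun i => ?_, ?_⟩⟩⟩
  · rw [reassoc_of% hh i]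
    simp [m, c, q]
  · refine colimit.hom_ext fun s => coequalizer.hom_ext (Sigma.hom_ext _ _ fun i => ?_)
    simp [c, q, hh, hm0 s i.1 i.2]

theorem isFP_iff_retract (hE : HasCoherentGenerators J) (X : Sh J) :
    IsFP X ↔ ∃ (X₀ X₁ : Sh J) (a b : X₁ ⟶ X₀) (i : X ⟶ coequalizer a b)
      (p : coequalizer a b ⟶ X), IsCoherent X₀ ∧ IsCoherent X₁ ∧ i ≫ p = 𝟙 X := by
  constructor
  · intro hX
    obtain ⟨I, _, _, D, hD, ⟨e⟩⟩ := exists_presentation hE X
    obtain ⟨s, f, hf⟩ := (isFP_iff.1 hX I D).2 e.hom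
    obtain ⟨X₀, X₁, a, b, h₀, h₁, hs⟩ := hD s
    exact ⟨X₀, X₁, a, b, f ≫ eqToHom hs, eqToHom hs.symm ≫ colimit.ι D s ≫ e.inv, h₀, h₁,
      by simp [reassoc_of% hf]⟩
  · rintro ⟨X₀, X₁, a, b, i, p, h₀, h₁, hip⟩
    exact isFP_of_retract i p hip (isFP_coequalizer a b (isFP_of_isCoherent (hasQC_of_hasCoherent hE) h₀)
      (isFP_of_isCoherent (hasQC_of_hasCoherent hE) h₁))

theorem isCoherent_of_retract {X Y : Sh J} (i : X ⟶ Y) (p : Y ⟶ X) (h : i ≫ p = 𝟙 X) (hY : IsCoherent Y) :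
    IsCoherent X :=
  have : Epi p := SplitEpi.epi ⟨i, h⟩
  have : Mono i := SplitMono.mono ⟨p, h⟩
  ⟨isQC_of_epi p hY.1, isQS_of_mono i hY.2⟩

theorem isQC_of_post_injective {X : Sh J}
    (h : ∀ (I : Type u) [SmallCategory I] [IsFiltered I] (D : I ⥤ Sh J),
      Function.Injective (colimit.post D (coyoneda.obj (op X)))) : IsQC X := by
  classical
  rw [isQC_iff]
  intro ι F π hπ
  let σ : ∀ s : Finset ι, (∐ fun i : s => F i.1) ⟶ X := fun s => Sigma.desc fun i => π i.1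
  have w : ∀ {s t : Finset ι}, (s ≤ t) → σ s ≫ pushout.inl (σ t) (σ t) = σ s ≫ pushout.inr (σ t) (σ t) := by
    intro s t hst
    refine Sigma.hom_ext _ _ fun i => ?_
    have e := congrArg (fun z => Sigma.ι (fun i : t => F i.1) ⟨i.1, hst i.2⟩ ≫ z)
      (pushout.condition (f := σ t) (g := σ t))
    simpa [σ] using e
  let D : Finset ι ⥤ Sh J :=
    { obj := fun s => pushout (σ s) (σ s)
      map := fun f => pushout.desc (pushout.inl _ _) (pushout.inr _ _) (w (leOfHom f))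
      map_id := fun s => pushout.hom_ext (by simp) (by simp)
      map_comp := fun f g => pushout.hom_ext (by simp) (by simp) }
  have : Nonempty (Finset ι) := ⟨∅⟩
  have e : pushout.inl (σ ∅) (σ ∅) ≫ colimit.ι D ∅ = pushout.inr (σ ∅) (σ ∅) ≫ colimit.ι D ∅ := by
    refine hπ _ _ _ fun i => ?_
    have l : (∅ : Finset ι) ⟶ {i} := homOfLE (Finset.empty_subset _)
    have e := congrArg (fun z => Sigma.ι (fun k : ({i} : Finset ι) => F k.1) ⟨i, Finset.mem_singleton_self i⟩ ≫ z ≫ colimit.ι D {i})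
      (pushout.condition (f := σ {i}) (g := σ {i}))
    simp only [σ, Category.assoc, colimit.ι_desc_assoc, Cofan.mk_ι_app] at e
    rw [← colimit.w D l]
    simpa [D] using e
  obtain ⟨s, u, hu⟩ := (post_injective_iff (D := D) X).1 (h (Finset ι) D) ∅ _ _ e
  refine ⟨s, fun Z f g hfg => ?_⟩
  have hw : σ s ≫ f = σ s ≫ g := Sigma.hom_ext _ _ fun i => by simpa [σ] using hfg i
  simpa [D] using congrArg (fun z => z ≫ pushout.desc f g hw) hu

/-- Filtered colimits of sheaves are computed objectwise when every object of the site is quasi-compact. -/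
theorem preservesColimitsOfShape_sheafToPresheaf [HasPullbacks C] (hC : ∀ U : C, IsQCSite J U)
    (I : Type u) [SmallCategory I] [IsFiltered I] : PreservesColimitsOfShape I (sheafToPresheaf J (Type u)) := by
  have hE : HasQCGenerators J :=
    hasQCGenerators_of_gen (P := fun A => ∃ U, A = eps J U) (fun _ ⟨_, e⟩ => e ▸ isQC_eps (hC _)) gen_eps
  refine ⟨fun {D} => preservesColimit_of_preserves_colimit_cocone (colimit.isColimit D) ?_⟩
  refine evaluationJointlyReflectsColimits _ fun ⟨U⟩ => Types.FilteredColimit.isColimitOf' _ _ (fun z => ?_)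
    (fun i x y e => ?_)
  · obtain ⟨i, f, hf⟩ := exists_factor hE (isCoherent_eps hC U) (el z)
    obtain ⟨y, rfl⟩ := el.surjective f
    rw [el_comp] at hf
    exact ⟨i, y, (el.injective hf).symm⟩
  · have e' : el x ≫ colimit.ι D i = el y ≫ colimit.ι D i := by
      rw [el_comp, el_comp]
      exact congrArg el e
    obtain ⟨j, u, hu⟩ := exists_eq_of_colimit_eq (isQC_eps (hC U)) _ _ e'
    rw [el_comp, el_comp] at hu
    exact ⟨j, u, el.injective hu⟩

end Groth.Agent.ToposFinLib
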