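import Groth.Agent.ToposFinLib.Cover
/-!
Quasi-compact objects and morphisms of a sheaf topos.
-/

universe u

open CategoryTheory CategoryTheory.Limits Opposite

namespace Groth.Agent.ToposFinLib

open ToposFin

variable {C : Type u} [SmallCategory C] {J : GrothendieckTopology C}

theorem isQC_iff {X : Sh J} : IsQC X ↔ ∀ (ι : Type u) (F : ι → Sh J) (π : ∀ i, F i ⟶ X), Cov π →
    ∃ s : Finset ι, Cov (fun i : s => π i) := by
  refine ⟨fun h ι F π hπ => ?_, fun h ι F π hπ => ?_⟩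
  · obtain ⟨s, hs⟩ := h ι F π ((cov_iff_epi π).1 hπ)
    exact ⟨s, (cov_iff_epi _).2 hs⟩
  · obtain ⟨s, hs⟩ := h ι F π ((cov_iff_epi π).2 hπ)
    exact ⟨s, (cov_iff_epi _).1 hs⟩

/-- A finite cover refining a cover. -/
theorem IsQC.exists_finset {X : Sh J} (h : IsQC X) {ι : Type u} {F : ι → Sh J} {π : ∀ i, F i ⟶ X} (hπ : Cov π) :
    ∃ s : Finset ι, Cov (fun i : s => π i) :=
  isQC_iff.1 h ι F π hπ

theorem isQC_of_finite_cov {X : Sh J} {κ : Type*} [Finite κ] {G : κ → Sh J} {g : ∀ k, G k ⟶ X} (hg : Cov g)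
    (hG : ∀ k, IsQC (G k)) : IsQC X := by
  classical
  rw [isQC_iff]
  intro ι F π hπ
  choose s hs using fun k => IsQC.exists_finset (hG k) (cov_pullback' hπ (g k))
  have := Fintype.ofFinite κ
  refine ⟨Finset.univ.biUnion s, cov_of_factor (cov_comp hg hs) ?_⟩
  rintro ⟨k, i, hi⟩
  exact ⟨⟨i, Finset.mem_biUnion.2 ⟨k, Finset.mem_univ _, hi⟩⟩, pullback.snd (g k) (π i), pullback.condition.symm⟩

theorem isQC_of_epi {X Y : Sh J} (f : X ⟶ Y) [Epi f] (hX : IsQC X) : IsQC Y :=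
  isQC_of_finite_cov (G := fun _ : Unit => X) (g := fun _ => f)
    (fun _ _ _ e => (cancel_epi f).1 (e ())) fun _ => hX

theorem isQC_of_iso {X Y : Sh J} (e : X ≅ Y) (hX : IsQC X) : IsQC Y := isQC_of_epi e.hom hX

theorem isQC_iff_of_iso {X Y : Sh J} (e : X ≅ Y) : IsQC X ↔ IsQC Y :=
  ⟨isQC_of_iso e, isQC_of_iso e.symm⟩

theorem isQC_pullback_symm {X Y Z : Sh J} {f : X ⟶ Z} {g : Y ⟶ Z} (h : IsQC (pullback f g)) :
    IsQC (pullback g f) :=
  isQC_of_iso (pullbackSymmetry f g) h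

/-- Representables generate. -/
theorem cov_eps (X : Sh J) : ∃ (ι : Type u) (U : ι → C) (π : ∀ i, eps J (U i) ⟶ X), Cov π :=
  ⟨_, fun p : Σ U : C, X.obj.obj (op U) => p.1, fun p => el p.2, cov_el X⟩

/-- The maps of representables given by a covering sieve are jointly epimorphic. -/
theorem cov_eps_map {U : C} {ι : Type*} {V : ι → C} (g : ∀ i, V i ⟶ U) (h : Sieve.ofArrows V g ∈ J U) :
    Cov (fun i => (presheafToSheaf J (Type u)).map (yoneda.map (g i))) := by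
  intro Z a b e
  obtain ⟨za, rfl⟩ := el.surjective a
  obtain ⟨zb, rfl⟩ := el.surjective b
  refine congrArg el (sheaf_ext h fun W f hf => ?_)
  obtain ⟨_, k, m, ⟨i⟩, rfl⟩ := hf
  have h1 := e i
  simp only [el_map] at h1
  simp only [op_comp, Functor.map_comp_apply]
  rw [el.injective h1]

theorem mem_of_cov_eps_map {U : C} {ι : Type*} {V : ι → C} (g : ∀ i, V i ⟶ U)
    (h : Cov (fun i => (presheafToSheaf J (Type u)).map (yoneda.map (g i)))) : Sieve.ofArrows V g ∈ J U := by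
  let T := Sieve.ofArrows V g
  let za : (omega J).obj.obj (op U) := ⟨J.close T, J.close_isClosed _⟩
  let zb : (omega J).obj.obj (op U) := ⟨(⊤ : Sieve U), fun _ _ _ => trivial⟩
  have hz : za = zb := by
    refine el.injective (h _ _ _ fun i => ?_)
    rw [el_map, el_map]
    refine congrArg el (Subtype.ext ?_)
    change (J.close T).pullback (g i) = (⊤ : Sieve U).pullback (g i)
    rw [Sieve.pullback_top, ← Sieve.mem_iff_pullback_eq_top]
    exact J.le_close T _ (Sieve.ofArrows_mk V g i)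
  exact (J.close_eq_top_iff_mem _).1 (congrArg Subtype.val hz)

theorem isQC_eps {U : C} (h : IsQCSite J U) : IsQC (eps J U) := by
  classical
  rw [isQC_iff]
  intro ι F π hπ
  obtain ⟨x, hx⟩ := el.surjective (𝟙 (eps J U))
  obtain ⟨n, V, g, hg, hcov⟩ := h _ (local_of_cov hπ U x)
  choose i y hy using hg
  refine ⟨Finset.univ.image i, cov_of_factor (cov_eps_map g hcov) fun k =>
    ⟨⟨i k, Finset.mem_image_of_mem _ (Finset.mem_univ _)⟩, el (y k), ?_⟩⟩
  change el (y k) ≫ π (i k) = _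
  rw [el_comp, hy, ← el_map, hx, Category.comp_id]

theorem isQCSite_of_isQC {U : C} (h : IsQC (eps J U)) : IsQCSite J U := by
  intro S hS
  have e : Sieve.ofArrows (fun p : Σ V : C, {f : V ⟶ U // S f} => p.1) (fun p => p.2.1) ∈ J U :=
    J.superset_covering (fun W f hf => Sieve.ofArrows_mk _ _ (⟨W, f, hf⟩ : Σ V : C, {f : V ⟶ U // S f})) hS
  obtain ⟨s, hs⟩ := IsQC.exists_finset h (cov_eps_map _ e)
  refine ⟨s.card, fun k => (s.equivFin.symm k).1.1, fun k => (s.equivFin.symm k).1.2.1,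
    fun k => (s.equivFin.symm k).1.2.2, J.superset_covering ?_ (mem_of_cov_eps_map _ hs)⟩
  rintro W f ⟨_, k, m, ⟨i⟩, rfl⟩
  refine ⟨_, k, _, ?_, rfl⟩
  obtain ⟨j, rfl⟩ := s.equivFin.symm.surjective i
  exact ⟨j⟩

theorem isQC_eps_iff {U : C} : IsQC (eps J U) ↔ IsQCSite J U := ⟨isQCSite_of_isQC, isQC_eps⟩

/-! ### Quasi-compact morphisms -/

theorem isQCHom_iff {X Y : Sh J} {f : X ⟶ Y} : IsQCHom f ↔ ∀ {Y' P : Sh J} {g : Y' ⟶ Y} {p : P ⟶ X} {q : P ⟶ Y'},
    IsPullback p q f g → IsQC Y' → IsQC P :=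
  ⟨fun h _ _ _ _ _ hP hY => isQC_of_iso hP.isoPullback.symm (h _ _ hY),
    fun h Y' g hY => h (IsPullback.of_hasPullback f g) hY⟩

theorem isQCHom_of_iso {X Y : Sh J} (f : X ⟶ Y) [IsIso f] : IsQCHom f := fun _ g hY =>
  isQC_of_iso (asIso (pullback.snd f g)).symm hY

theorem isQCHom_comp {X Y Z : Sh J} {f : X ⟶ Y} {g : Y ⟶ Z} (hf : IsQCHom f) (hg : IsQCHom g) :
    IsQCHom (f ≫ g) := fun W w hW =>
  isQC_of_iso ((IsPullback.of_hasPullback f (pullback.fst g w)).paste_vert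
    (IsPullback.of_hasPullback g w).flip.flip).isoPullback (hf _ _ (hg W w hW))

theorem isQC_of_isQCHom {X Y : Sh J} {f : X ⟶ Y} (hf : IsQCHom f) (hY : IsQC Y) : IsQC X :=
  isQC_of_iso (asIso (pullback.fst f (𝟙 Y))) (hf Y (𝟙 Y) hY)

theorem isQCHom_of_isPullback {X Y X' Y' : Sh J} {f : X ⟶ Y} {g : Y' ⟶ Y} {p : X' ⟶ X} {q : X' ⟶ Y'}
    (h : IsPullback p q f g) (hf : IsQCHom f) : IsQCHom q :=
  isQCHom_iff.2 fun hP hZ => isQCHom_iff.1 hf (hP.paste_horiz h) hZ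

theorem isQCHom_fst {X Y Y' : Sh J} {f : X ⟶ Y} (g : Y' ⟶ Y) (hf : IsQCHom f) : IsQCHom (pullback.fst g f) :=
  isQCHom_of_isPullback (IsPullback.of_hasPullback g f).flip hf

theorem isQCHom_snd {X Y Y' : Sh J} {f : X ⟶ Y} (g : Y' ⟶ Y) (hf : IsQCHom f) : IsQCHom (pullback.snd f g) :=
  isQCHom_of_isPullback (IsPullback.of_hasPullback f g) hf

end Groth.Agent.ToposFinLib
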