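import Mathlib.CategoryTheory.Limits.Indization.IndObject
import Mathlib.CategoryTheory.Functor.KanExtension.Adjunction
import Mathlib.CategoryTheory.Limits.Types.Filtered
import Mathlib.CategoryTheory.Limits.Preserves.Basic
/-!
The unit of the left Kan extension adjunction on representable presheaves and on ind-objects.
-/

set_option backward.isDefEq.respectTransparency false
set_option backward.isDefEq.respectTransparency.types false

universe u

open CategoryTheory CategoryTheory.Limits Opposite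

namespace Groth.Agent.ToposFinLib

variable {C : Type u} [SmallCategory C] {C' : Type u} [SmallCategory C'] (u : C ⥤ C')

/-- The comparison of the extension of a representable with the representable. -/
noncomputable def lanYonedaHom (Y : C) : u.op.lan.obj (yoneda.obj Y) ⟶ yoneda.obj (u.obj Y) :=
  ((u.op.lanAdjunction (Type u)).homEquiv _ _).symm (yonedaMap u Y)

noncomputable def lanUnitApp (G : Cᵒᵖ ⥤ Type u) (X : C) (x : G.obj (op X)) : (u.op.lan.obj G).obj (op (u.obj X)) :=
  ((u.op.lanAdjunction (Type u)).unit.app G).app (op X) x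

theorem lanYonedaHom_unit {X Y : C} (f : X ⟶ Y) :
    (lanYonedaHom u Y).app (op (u.obj X)) (lanUnitApp u (yoneda.obj Y) X f) = u.map f := by
  have h := ((u.op.lanAdjunction (Type u)).homEquiv (yoneda.obj Y) (yoneda.obj (u.obj Y))).apply_symm_apply (yonedaMap u Y)
  rw [Adjunction.homEquiv_unit] at h
  have := congrArg (fun z : yoneda.obj Y ⟶ u.op ⋙ yoneda.obj (u.obj Y) => z.app (op X) f) h
  exact this

noncomputable def lanYonedaIso (Y : C) : u.op.lan.obj (yoneda.obj Y) ≅ yoneda.obj (u.obj Y) where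
  hom := lanYonedaHom u Y
  inv := yonedaEquiv.symm (lanUnitApp u (yoneda.obj Y) Y (𝟙 Y))
  hom_inv_id := by
    refine ((u.op.lanAdjunction (Type u)).homEquiv _ _).injective (yonedaEquiv.injective ?_)
    rw [Adjunction.homEquiv_unit, Adjunction.homEquiv_unit]
    change (yonedaEquiv.symm (lanUnitApp u (yoneda.obj Y) Y (𝟙 Y))).app (op (u.obj Y))
      ((lanYonedaHom u Y).app (op (u.obj Y)) (lanUnitApp u (yoneda.obj Y) Y (𝟙 Y))) =
        lanUnitApp u (yoneda.obj Y) Y (𝟙 Y)
    rw [lanYonedaHom_unit, CategoryTheory.Functor.map_id]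
    exact yonedaEquiv.apply_symm_apply (lanUnitApp u (yoneda.obj Y) Y (𝟙 Y))
  inv_hom_id := by
    refine yonedaEquiv.injective ?_
    rw [yonedaEquiv_comp, Equiv.apply_symm_apply, lanYonedaHom_unit, CategoryTheory.Functor.map_id]
    rfl

theorem lanYonedaHom_naturality {A B : C} (f : A ⟶ B) :
    u.op.lan.map (yoneda.map f) ≫ lanYonedaHom u B = lanYonedaHom u A ≫ yoneda.map (u.map f) := by
  refine ((u.op.lanAdjunction (Type u)).homEquiv _ _).injective ?_
  rw [Adjunction.homEquiv_naturality_left, Adjunction.homEquiv_naturality_right]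
  unfold lanYonedaHom
  rw [Equiv.apply_symm_apply, Equiv.apply_symm_apply]
  ext X g
  exact u.map_comp g f

theorem lanUnitApp_map {G H : Cᵒᵖ ⥤ Type u} (φ : G ⟶ H) (X : C) (x : G.obj (op X)) :
    (u.op.lan.map φ).app (op (u.obj X)) (lanUnitApp u G X x) = lanUnitApp u H X (φ.app (op X) x) :=
  (congrArg (fun z : G ⟶ u.op ⋙ u.op.lan.obj H => z.app (op X) x)
    ((u.op.lanAdjunction (Type u)).unit.naturality φ)).symm

theorem lanUnit_yoneda_injective [u.Faithful] (Y X : C) :
    Function.Injective (lanUnitApp u (yoneda.obj Y) X) := fun f g e =>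
  u.map_injective ((lanYonedaHom_unit u f).symm.trans ((congrArg _ e).trans (lanYonedaHom_unit u g)))

theorem lanUnit_yoneda_surjective [u.Full] (Y X : C) :
    Function.Surjective (lanUnitApp u (yoneda.obj Y) X) := fun z => by
  refine ⟨u.preimage ((lanYonedaHom u Y).app (op (u.obj X)) z), ?_⟩
  have : IsIso (lanYonedaHom u Y) := inferInstanceAs (IsIso (lanYonedaIso u Y).hom)
  exact ((isIso_iff_bijective _).1 (inferInstance : IsIso ((lanYonedaHom u Y).app (op (u.obj X))))).1
    ((lanYonedaHom_unit u _).trans (u.map_preimage _))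

variable {G : Cᵒᵖ ⥤ Type u} (P : IndObjectPresentation G) (X : C)

noncomputable def isColimitEval :
    IsColimit (((evaluation Cᵒᵖ (Type u)).obj (op X)).mapCocone P.cocone) :=
  isColimitOfPreserves _ P.coconeIsColimit

noncomputable def isColimitLanEval :
    IsColimit (((evaluation C'ᵒᵖ (Type u)).obj (op (u.obj X))).mapCocone (u.op.lan.mapCocone P.cocone)) :=
  have : PreservesColimitsOfSize.{u, u} (u.op.lan : (Cᵒᵖ ⥤ Type u) ⥤ _) :=
    (u.op.lanAdjunction (Type u)).leftAdjoint_preservesColimits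
  isColimitOfPreserves _ (isColimitOfPreserves _ P.coconeIsColimit)

include P in
theorem lanUnit_injective [u.Faithful] : Function.Injective (lanUnitApp u G X) := by
  intro x y e
  obtain ⟨i, f, rfl⟩ := Types.jointly_surjective_of_isColimit (isColimitEval P X) x
  obtain ⟨j, g, rfl⟩ := Types.jointly_surjective_of_isColimit (isColimitEval P X) y
  have e' : (u.op.lan.map (P.ι.app i)).app (op (u.obj X)) (lanUnitApp u (yoneda.obj (P.F.obj i)) X f) =
      (u.op.lan.map (P.ι.app j)).app (op (u.obj X)) (lanUnitApp u (yoneda.obj (P.F.obj j)) X g) :=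
    (lanUnitApp_map u _ _ _).trans (e.trans (lanUnitApp_map u _ _ _).symm)
  obtain ⟨k, a, b, hk⟩ := (Types.FilteredColimit.isColimit_eq_iff _ (isColimitLanEval u P X)).1 e'
  refine (Types.FilteredColimit.isColimit_eq_iff _ (isColimitEval P X)).2 ⟨k, a, b, lanUnit_yoneda_injective u _ X ?_⟩
  exact (lanUnitApp_map u (yoneda.map (P.F.map a)) X f).symm.trans
    (hk.trans (lanUnitApp_map u (yoneda.map (P.F.map b)) X g))

include P in
theorem lanUnit_surjective [u.Full] : Function.Surjective (lanUnitApp u G X) := by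
  intro z
  obtain ⟨i, w, rfl⟩ := Types.jointly_surjective_of_isColimit (isColimitLanEval u P X) z
  obtain ⟨f, hf⟩ := lanUnit_yoneda_surjective u (P.F.obj i) X w
  exact ⟨(P.ι.app i).app (op X) f,
    (lanUnitApp_map u (P.ι.app i) X f).symm.trans (congrArg ((u.op.lan.map (P.ι.app i)).app (op (u.obj X))) hf)⟩

theorem lanMap_injective [u.Faithful] (F : Cᵒᵖ ⥤ Type u) {G : Cᵒᵖ ⥤ Type u} (hG : IsIndObject G) :
    Function.Injective (fun φ : F ⟶ G => (u.op.lan : (Cᵒᵖ ⥤ Type u) ⥤ (C'ᵒᵖ ⥤ Type u)).map φ) := by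
  intro φ ψ e
  ext X x
  refine lanUnit_injective u hG.presentation X.unop ?_
  exact (lanUnitApp_map u φ _ x).symm.trans
    ((congrArg (fun z => z.app (op (u.obj X.unop)) (lanUnitApp u F X.unop x)) e).trans (lanUnitApp_map u ψ _ x))

theorem lanMap_surjective [u.Full] [u.Faithful] (F : Cᵒᵖ ⥤ Type u) {G : Cᵒᵖ ⥤ Type u} (hG : IsIndObject G) :
    Function.Surjective (fun φ : F ⟶ G => (u.op.lan : (Cᵒᵖ ⥤ Type u) ⥤ (C'ᵒᵖ ⥤ Type u)).map φ) := by
  intro ψ
  have hi : ∀ X, IsIso (((u.op.lanAdjunction (Type u)).unit.app G).app X) := fun X =>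
    (isIso_iff_bijective _).2 ⟨lanUnit_injective u hG.presentation X.unop, lanUnit_surjective u hG.presentation X.unop⟩
  have : IsIso ((u.op.lanAdjunction (Type u)).unit.app G) := NatIso.isIso_of_isIso_app _
  refine ⟨(u.op.lanAdjunction (Type u)).homEquiv _ _ ψ ≫ inv ((u.op.lanAdjunction (Type u)).unit.app G),
    ((u.op.lanAdjunction (Type u)).homEquiv _ _).injective ?_⟩
  have key : ∀ φ : F ⟶ G, (u.op.lanAdjunction (Type u)).homEquiv _ _ (u.op.lan.map φ) =
      φ ≫ (u.op.lanAdjunction (Type u)).unit.app G := fun φ => by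
    rw [Adjunction.homEquiv_unit]
    exact ((u.op.lanAdjunction (Type u)).unit.naturality φ).symm
  refine (key _).trans ?_
  simp

end Groth.Agent.ToposFinLib
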