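import Groth.Agent.ToposFinLib.QS
import Mathlib.CategoryTheory.Extensive
/-!
Coproducts in a sheaf topos and quasi-compactness.
-/

set_option backward.isDefEq.respectTransparency false
set_option backward.isDefEq.respectTransparency.types false

universe u

open CategoryTheory CategoryTheory.Limits Opposite

namespace Groth.Agent.ToposFinLib

open ToposFin

variable {C : Type u} [SmallCategory C] {J : GrothendieckTopology C}

theorem isQC_of_isInitial {X : Sh J} (h : IsInitial X) : IsQC X :=
  isQC_iff.2 fun _ _ _ _ => ⟨∅, fun _ a b _ => h.hom_ext a b⟩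

section Binary

variable {ι : Type u} {F : ι → Sh J} {c : Cofan F} (hc : IsColimit c) (i : ι)

/-- A summand and the sum of the others. -/
noncomputable def splitOff : BinaryCofan (F i) (∐ fun k : {k // k ≠ i} => F k.1) :=
  BinaryCofan.mk (c.inj i) (Sigma.desc fun k => c.inj k.1)

include hc in
theorem isColimit_splitOff : Nonempty (IsColimit (splitOff (c := c) i)) := by
  classical
  refine ⟨BinaryCofan.IsColimit.mk _
    (fun {T} f g => Cofan.IsColimit.desc hc fun k => if h : k = i then eqToHom (by rw [h]) ≫ f
      else Sigma.ι (fun k : {k // k ≠ i} => F k.1) ⟨k, h⟩ ≫ g)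
    (fun {T} f g => ?_) (fun {T} f g => ?_) (fun {T} f g m hf hg => ?_)⟩
  · simp [splitOff]
  · refine Sigma.hom_ext _ _ fun k => ?_
    simp [splitOff, k.2]
  · refine Cofan.IsColimit.hom_ext hc _ _ fun k => ?_
    rw [Cofan.IsColimit.fac]
    split
    · rename_i h
      subst h
      simpa [splitOff] using hf
    · rename_i h
      rw [← hg]
      simp [splitOff]

include hc in
theorem mono_inj : Mono (c.inj i) :=
  FinitaryExtensive.mono_inl_of_isColimit (isColimit_splitOff hc i).some

include hc in
theorem isInitial_of_inj_eq {k : ι} (hk : k ≠ i) {W : Sh J} (a : W ⟶ F i) (b : W ⟶ F k)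
    (e : a ≫ c.inj i = b ≫ c.inj k) : Nonempty (IsInitial W) := by
  have hp := FinitaryExtensive.isPullback_initial_to_binaryCofan (isColimit_splitOff hc i).some
  let l := hp.lift a (b ≫ Sigma.ι (fun k : {k // k ≠ i} => F k.1) ⟨k, hk⟩) (by simp [splitOff, e])
  have : IsIso l := initialIsInitial.isIso_to l
  exact ⟨initialIsInitial.ofIso (asIso l).symm⟩

include hc in
theorem cov_inj : Cov c.inj := fun _ _ _ h => Cofan.IsColimit.hom_ext hc _ _ h

include hc in
theorem isQCHom_inj : IsQCHom (c.inj i) := by
  classical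
  intro T t hT
  refine isQC_of_iso (pullbackSymmetry t (c.inj i)) ?_
  have := mono_inj hc i
  rw [isQC_iff]
  intro α G σ hσ
  let P := fun k => pullback t (c.inj k)
  let β : Type u := α ⊕ {k // k ≠ i}
  let H : β → Sh J := Sum.elim G fun k => P k.1
  let η : ∀ x : β, H x ⟶ T := fun x =>
    match x with
    | Sum.inl j => σ j ≫ pullback.fst t (c.inj i)
    | Sum.inr k => pullback.fst t (c.inj k.1)
  have hη : Cov η := fun Z a b e => by
    refine cov_pullback' (cov_inj hc) t Z a b fun k => ?_
    by_cases h : k = i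
    · subst h
      exact hσ Z _ _ fun j => by simpa [η] using e (Sum.inl j)
    · exact e (Sum.inr ⟨k, h⟩)
  obtain ⟨s, hs⟩ := IsQC.exists_finset hT hη
  refine ⟨s.preimage Sum.inl Sum.inl_injective.injOn, fun Z a b e => ?_⟩
  refine cov_pullback' hs (pullback.fst t (c.inj i)) Z a b ?_
  rintro ⟨x, hx⟩
  rcases x with j | k
  · have hv : pullback.fst (pullback.fst t (c.inj i)) (η (Sum.inl j)) =
        pullback.snd (pullback.fst t (c.inj i)) (η (Sum.inl j)) ≫ σ j := by
      rw [← cancel_mono (pullback.fst t (c.inj i)), pullback.condition, Category.assoc]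
    simp only [hv, Category.assoc]
    exact congrArg (fun z => _ ≫ z) (e ⟨j, Finset.mem_preimage.2 hx⟩)
  · obtain ⟨hI⟩ := isInitial_of_inj_eq hc i k.2
      (pullback.fst (pullback.fst t (c.inj i)) (η (Sum.inr k)) ≫ pullback.snd t (c.inj i))
      (pullback.snd (pullback.fst t (c.inj i)) (η (Sum.inr k)) ≫ pullback.snd t (c.inj k.1)) (by
        rw [Category.assoc, Category.assoc, ← pullback.condition, ← pullback.condition, pullback.condition_assoc])
    exact hI.hom_ext _ _

include hc in
theorem isQSHom_inj : IsQSHom (c.inj i) :=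
  have := mono_inj hc i
  isQSHom_of_mono _

include hc in
theorem isQC_summand (h : IsQC c.pt) : IsQC (F i) := isQC_of_isQCHom (isQCHom_inj hc i) h

end Binary

end Groth.Agent.ToposFinLib
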