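import Groth.Agent.ToposFinLib.Coprod
import Mathlib.CategoryTheory.Sites.LocallySurjective
import Mathlib.CategoryTheory.Sites.LeftExact
/-!
Locality of quasi-compactness and quasi-separatedness on covers; maps between representables.
-/

set_option backward.isDefEq.respectTransparency false
set_option backward.isDefEq.respectTransparency.types false

universe u

open CategoryTheory CategoryTheory.Limits Opposite

namespace Groth.Agent.ToposFinLib

open ToposFin

variable {C : Type u} [SmallCategory C] {J : GrothendieckTopology C}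

/-- The equalizer of two maps after precomposition. -/
theorem isQC_equalizer_precomp {X T W : Sh J} (a b : T ⟶ X) (l : W ⟶ T)
    (h : IsQC (pullback (equalizer.ι a b) l)) : IsQC (equalizer (l ≫ a) (l ≫ b)) :=
  isQC_of_iso
    { hom := equalizer.lift (pullback.snd _ _) (by
        rw [← pullback.condition_assoc, ← pullback.condition_assoc, equalizer.condition])
      inv := pullback.lift (equalizer.lift (equalizer.ι (l ≫ a) (l ≫ b) ≫ l)
        (by simpa using equalizer.condition (l ≫ a) (l ≫ b))) (equalizer.ι _ _) (by simp)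
      hom_inv_id := pullback.hom_ext (equalizer.hom_ext (by simp [pullback.condition])) (by simp)
      inv_hom_id := equalizer.hom_ext (by simp) } h

theorem isQC_pullback_congr {X Y T : Sh J} (f : X ⟶ Y) {s s' : T ⟶ Y} (e : s = s') (h : IsQC (pullback f s)) :
    IsQC (pullback f s') := by
  subst e; exact h

theorem isQC_equalizer_congr_eq {X T : Sh J} {a a' b b' : T ⟶ X} (ea : a = a') (eb : b = b')
    (h : IsQC (equalizer a b)) : IsQC (equalizer a' b') := by
  subst ea; subst eb; exact h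

/-- Refining one map out of a quasi-compact object through a cover of the target. -/
theorem exists_lift_cov {P : Sh J → Prop}
    (hgen : ∀ X : Sh J, ∃ (ι : Type u) (F : ι → Sh J) (π : ∀ i, F i ⟶ X), (∀ i, P (F i)) ∧ Cov π)
    {Y : Sh J} {ι : Type u} {F : ι → Sh J} {g : ∀ i, F i ⟶ Y} (hg : Cov g) {T : Sh J} (t : T ⟶ Y) (hT : IsQC T) :
    ∃ (κ : Type u) (_ : Finite κ) (W : κ → Sh J) (w : ∀ k, W k ⟶ T),
      (∀ k, P (W k)) ∧ Cov w ∧ ∀ k, ∃ (i : ι) (m : W k ⟶ F i), m ≫ g i = w k ≫ t := by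
  obtain ⟨κ, _, W, w, hW, hw, hf⟩ := exists_refinement hgen hT (cov_pullback' hg t)
  exact ⟨κ, inferInstance, W, w, hW, hw, fun k => by
    obtain ⟨i, m, hm⟩ := hf k
    exact ⟨i, m ≫ pullback.snd t (g i), by rw [Category.assoc, ← pullback.condition, ← hm, Category.assoc]⟩⟩

/-- Refining one map out of a quasi-compact object through a cover by quasi-compact morphisms. -/
theorem exists_lift_qc {Y : Sh J} {ι : Type u} {F : ι → Sh J} {g : ∀ i, F i ⟶ Y} (hg : Cov g)
    (hqc : ∀ i, IsQCHom (g i)) {T : Sh J} (t : T ⟶ Y) (hT : IsQC T) :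
    ∃ (κ : Type u) (_ : Finite κ) (W : κ → Sh J) (w : ∀ k, W k ⟶ T),
      (∀ k, IsQC (W k)) ∧ Cov w ∧ ∀ k, ∃ (i : ι) (m : W k ⟶ F i), m ≫ g i = w k ≫ t := by
  obtain ⟨s, hs⟩ := IsQC.exists_finset hT (cov_pullback' hg t)
  exact ⟨↥s, inferInstance, fun k => pullback t (g k.1), fun k => pullback.fst t (g k.1),
    fun k => isQC_pullback_symm (hqc _ T t hT), hs, fun k => ⟨k.1, pullback.snd t (g k.1), pullback.condition.symm⟩⟩

/-- A morphism is quasi-compact if it is so over a cover of the target. -/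
theorem isQCHom_of_cov (hE : HasQCGenerators J) {X Y : Sh J} (f : X ⟶ Y) {ι : Type u} {F : ι → Sh J}
    {g : ∀ i, F i ⟶ Y} (hg : Cov g) (h : ∀ i, IsQCHom (pullback.snd f (g i))) : IsQCHom f := by
  intro T t hT
  obtain ⟨κ, _, W, w, hW, hw, hf⟩ := exists_lift_cov (gen_of_hasQCGenerators hE) hg t hT
  refine isQC_pullback_of_cov f t hw fun k => ?_
  obtain ⟨i, m, hm⟩ := hf k
  refine isQC_pullback_congr f hm ?_
  exact isQC_of_iso (pullbackLeftPullbackSndIso f (g i) m) (h i _ m (hW k))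

/-- A morphism is quasi-separated if it is so over a cover of the target. -/
theorem isQSHom_of_cov (hE : HasQCGenerators J) {X Y : Sh J} (f : X ⟶ Y) {ι : Type u} {F : ι → Sh J}
    {g : ∀ i, F i ⟶ Y} (hg : Cov g) (h : ∀ i, IsQSHom (pullback.snd f (g i))) : IsQSHom f := by
  refine isQSHom_iff.2 fun {T} a b e hT => ?_
  obtain ⟨κ, _, W, w, hW, hw, hf⟩ := exists_lift_cov (gen_of_hasQCGenerators hE) hg (a ≫ f) hT
  refine isQC_equalizer_of_cov a b hw fun k => ?_
  obtain ⟨i, m, hm⟩ := hf k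
  have ha : (w k ≫ a) ≫ f = m ≫ g i := by rw [hm, Category.assoc]
  have hb : (w k ≫ b) ≫ f = m ≫ g i := by rw [hm, e, Category.assoc]
  refine isQC_equalizer_congr (fun {V} v => ?_)
    (isQSHom_iff.1 (h i) (pullback.lift _ _ ha) (pullback.lift _ _ hb) (by simp) (hW k))
  refine ⟨fun hv => ?_, fun hv => pullback.hom_ext (by simpa using hv) (by simp)⟩
  have := congrArg (fun z => z ≫ pullback.fst f (g i)) hv
  simpa using this

/-- An object covered by quasi-separated objects through quasi-compact morphisms is quasi-separated. -/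
theorem isQS_of_cov {Y : Sh J} {ι : Type u} {F : ι → Sh J}
    {g : ∀ i, F i ⟶ Y} (hg : Cov g) (hqs : ∀ i, IsQS (F i)) (hqc : ∀ i, IsQCHom (g i)) : IsQS Y := by
  intro A B a b hA hB
  obtain ⟨κ, _, W, w, hW, hw, hf⟩ := exists_lift_qc hg hqc a hA
  refine isQC_pullback_symm (isQC_pullback_of_cov b a hw fun k => ?_)
  obtain ⟨i, m, hm⟩ := hf k
  refine isQC_pullback_congr b hm ?_
  exact isQC_pullback_symm (isQC_of_iso (pullbackRightPullbackFstIso (g i) b m)
    (hqs i _ _ m _ (hW k) (hqc i B b hB)))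

/-- The composite criterion for quasi-separatedness along a quasi-compact cover of the source. -/
theorem isQSHom_of_comp_cov {Y Z : Sh J} (g : Y ⟶ Z) {ι : Type u} {F : ι → Sh J}
    {f : ∀ i, F i ⟶ Y} (hf : Cov f) (hqc : ∀ i, IsQCHom (f i)) (hqs : ∀ i, IsQSHom (f i ≫ g)) : IsQSHom g := by
  refine isQSHom_iff.2 fun {T} a b e hT => ?_
  obtain ⟨κ, _, W, w, hW, hw, hl⟩ := exists_lift_qc hf hqc a hT
  refine isQC_equalizer_of_cov a b hw fun k => ?_
  obtain ⟨i, m, hm⟩ := hl k
  refine isQC_equalizer_congr_eq hm rfl ?_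
  have e' : (m ≫ f i) ≫ g = (w k ≫ b) ≫ g := by rw [hm, Category.assoc, e, Category.assoc]
  generalize w k ≫ b = b' at e' ⊢
  have hQ : IsQC (pullback (f i) b') := hqc i _ b' (hW k)
  have hc : (pullback.snd (f i) b' ≫ m) ≫ f i ≫ g = pullback.fst (f i) b' ≫ f i ≫ g := by
    rw [pullback.condition_assoc, Category.assoc, ← Category.assoc m, e']
  refine isQC_of_iso
    { hom := equalizer.lift (equalizer.ι (pullback.snd (f i) b' ≫ m) (pullback.fst (f i) b') ≫ pullback.snd _ _) ?_
      inv := equalizer.lift (pullback.lift (equalizer.ι (m ≫ f i) b' ≫ m) (equalizer.ι _ _)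
        (by simpa using equalizer.condition (m ≫ f i) b')) (by simp)
      hom_inv_id := ?_
      inv_hom_id := ?_ } (isQSHom_iff.1 (hqs i) _ _ hc hQ)
  · have h1 := congrArg (fun z => z ≫ f i)
      (equalizer.condition (pullback.snd (f i) b' ≫ m) (pullback.fst (f i) b'))
    simp only [Category.assoc, pullback.condition] at h1
    simpa using h1
  · have h1 := equalizer.condition (pullback.snd (f i) b' ≫ m) (pullback.fst (f i) b')
    refine equalizer.hom_ext (pullback.hom_ext ?_ (by simp))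
    simpa using h1
  · exact equalizer.hom_ext (by simp)

/-- A morphism with quasi-compact composites along a finite cover of the source is quasi-compact. -/
theorem isQCHom_of_comp_cov {Y Z : Sh J} (g : Y ⟶ Z) {κ : Type*} [Finite κ] {F : κ → Sh J}
    {f : ∀ i, F i ⟶ Y} (hf : Cov f) (h : ∀ i, IsQCHom (f i ≫ g)) : IsQCHom g := fun T t hT =>
  isQC_of_finite_cov (cov_pullback' hf (pullback.fst g t)) fun k =>
    isQC_pullback_symm (isQC_of_iso (pullbackRightPullbackFstIso g t (f k)).symm (h k T t hT))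

theorem cov_reindex {ι κ : Type*} {F : ι → Sh J} {X : Sh J} {π : ∀ i, F i ⟶ X} (e : κ → ι)
    (he : Function.Surjective e) (h : Cov π) : Cov (fun k => π (e k)) :=
  fun Z a b hab => h Z a b fun i => by obtain ⟨k, rfl⟩ := he i; exact hab k

theorem isQC_equalizer_of_isQS {X Xi Xj Y W : Sh J} (f : X ⟶ Y) (g : Xi ⟶ X) (g' : Xj ⟶ X)
    (hXi : IsQC Xi) (hXj : IsQC Xj) (hP : IsQS (pullback (g ≫ f) (g' ≫ f))) (hX : IsQS X) (hW : IsQC W)
    (m : W ⟶ Xi) (m' : W ⟶ Xj) (e : m ≫ g ≫ f = m' ≫ g' ≫ f) : IsQC (equalizer (m ≫ g) (m' ≫ g')) := by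
  have hQ : IsQC (equalizer (pullback.fst (g ≫ f) (g' ≫ f) ≫ g) (pullback.snd (g ≫ f) (g' ≫ f) ≫ g')) :=
    isQC_of_iso (isPullback_equalizer g g' (IsPullback.of_hasPullback (g ≫ f) (g' ≫ f))).isoPullback.symm
      (hX _ _ g g' hXi hXj)
  have := isQC_equalizer_precomp _ _ (pullback.lift m m' e) (hP _ _ _ (pullback.lift m m' e) hQ hW)
  simpa [pullback.lift_fst_assoc, pullback.lift_snd_assoc] using this

/-- Criterion for a morphism out of a quasi-separated object to be quasi-separated. -/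
theorem isQSHom_of_isQS (hE : HasQCGenerators J) {X Y : Sh J} (f : X ⟶ Y) {ι : Type u} {F : ι → Sh J}
    {g : ∀ i, F i ⟶ X} (hg : Cov g) (hqc : ∀ i, IsQC (F i))
    (hqs : ∀ i j, IsQS (pullback (g i ≫ f) (g j ≫ f))) (hX : IsQS X) : IsQSHom f := by
  refine isQSHom_iff.2 fun {T} a b e hT => ?_
  obtain ⟨κ, _, W, w, hW, hw, hl⟩ := exists_lift_cov (gen_of_hasQCGenerators hE) hg a hT
  refine isQC_equalizer_of_cov a b hw fun k => ?_
  obtain ⟨κ', _, W', w', hW', hw', hl'⟩ := exists_lift_cov (gen_of_hasQCGenerators hE) hg (w k ≫ b) (hW k)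
  refine isQC_equalizer_of_cov _ _ hw' fun k' => ?_
  obtain ⟨i, m, hm⟩ := hl k
  obtain ⟨j, m', hm'⟩ := hl' k'
  refine isQC_equalizer_congr_eq (a := (w' k' ≫ m) ≫ g i) (by rw [Category.assoc, hm]) hm' ?_
  refine isQC_equalizer_of_isQS f _ _ (hqc i) (hqc j) (hqs i j) hX (hW' k') _ _ ?_
  rw [reassoc_of% hm', Category.assoc, reassoc_of% hm, e]

theorem isInitial_of_cov_empty {X : Sh J} {κ : Type*} [IsEmpty κ] {G : κ → Sh J} {π : ∀ k, G k ⟶ X}
    (h : Cov π) : Nonempty (IsInitial X) := by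
  have : Epi (initial.to X) := ⟨fun a b _ => h _ a b isEmptyElim⟩
  have : IsIso (initial.to X) := isIso_of_mono_of_epi _
  exact ⟨initialIsInitial.ofIso (asIso (initial.to X))⟩

theorem isInitial_of_cov_initial {X : Sh J} {κ : Type*} {G : κ → Sh J} {π : ∀ k, G k ⟶ X}
    (h : Cov π) (hG : ∀ k, Nonempty (IsInitial (G k))) : Nonempty (IsInitial X) :=
  isInitial_of_cov_empty (κ := PEmpty.{1}) (G := PEmpty.elim) (π := fun k => k.elim)
    (fun Z a b _ => h Z a b fun k => (hG k).some.hom_ext _ _)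

theorem map_yoneda_eq_el {U X : C} (t : U ⟶ X) :
    (presheafToSheaf J (Type u)).map (yoneda.map t) = el (X := eps J X) ((toSheafify J (yoneda.obj X)).app (op U) t) := by
  simp only [el, Equiv.trans_apply]
  rw [Equiv.eq_symm_apply]
  refine (Adjunction.homEquiv_unit _ _ _ _).trans ?_
  refine yonedaEquiv.injective ?_
  refine Eq.trans ?_ (Equiv.apply_symm_apply _ _).symm
  rw [sheafificationAdjunction_unit_app]
  rw [show (sheafToPresheaf J (Type u)).map ((presheafToSheaf J (Type u)).map (yoneda.map t)) = sheafifyMap J (yoneda.map t) from rfl,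
    ← toSheafify_naturality, yonedaEquiv_comp]
  simp
  exact congrArg _ (Category.id_comp t)

/-- A map of representable sheaves is locally given by maps of the site. -/
theorem exists_local_eps {U X : C} (a : eps J U ⟶ eps J X) :
    ∃ (ι : Type u) (W : ι → C) (w : ∀ i, W i ⟶ U) (t : ∀ i, W i ⟶ X),
      Cov (fun i => (presheafToSheaf J (Type u)).map (yoneda.map (w i))) ∧
      ∀ i, (presheafToSheaf J (Type u)).map (yoneda.map (w i)) ≫ a = (presheafToSheaf J (Type u)).map (yoneda.map (t i)) := by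
  obtain ⟨x, rfl⟩ := el.surjective a
  refine ⟨Σ W : C, {w : W ⟶ U // Presheaf.imageSieve (toSheafify J (yoneda.obj X)) x w}, fun p => p.1, fun p => p.2.1,
    fun p => p.2.2.choose, cov_eps_map _ (J.superset_covering (fun W w hw => ?_)
      (Presheaf.imageSieve_mem J (toSheafify J (yoneda.obj X)) x)), fun p => ?_⟩
  · exact Sieve.ofArrows_mk _ _
      (⟨W, w, hw⟩ : Σ W : C, {w : W ⟶ U // Presheaf.imageSieve (toSheafify J (yoneda.obj X)) x w})
  · rw [el_map, map_yoneda_eq_el]
    exact congrArg el p.2.2.choose_spec.symm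

theorem gen_eps (X : Sh J) :
    ∃ (ι : Type u) (F : ι → Sh J) (π : ∀ i, F i ⟶ X), (∀ i, ∃ U, F i = eps J U) ∧ Cov π :=
  let ⟨ι, U, π, h⟩ := cov_eps X; ⟨ι, _, π, fun i => ⟨U i, rfl⟩, h⟩

theorem isCoherent_eps [HasPullbacks C] (hC : ∀ X : C, IsQCSite J X) (X : C) : IsCoherent (eps J X) := by
  refine ⟨isQC_eps (hC X), isQS_of_gen (P := fun A => ∃ U, A = eps J U) gen_eps fun {A B} a b ⟨U, hU⟩ ⟨V, hV⟩ => ?_⟩
  subst hU; subst hV
  obtain ⟨ι, W, w, t, hw, hwt⟩ := exists_local_eps a
  obtain ⟨s, hs⟩ := IsQC.exists_finset (isQC_eps (hC U)) hw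
  obtain ⟨ι', W', w', t', hw', hwt'⟩ := exists_local_eps b
  obtain ⟨s', hs'⟩ := IsQC.exists_finset (isQC_eps (hC V)) hw'
  refine isQC_pullback_symm (isQC_pullback_of_cov b a hs fun k => ?_)
  refine isQC_pullback_congr b (hwt k).symm ?_
  refine isQC_pullback_symm (isQC_pullback_of_cov _ b hs' fun k' => ?_)
  refine isQC_pullback_congr _ (hwt' k').symm ?_
  exact isQC_of_iso (((IsPullback.of_hasPullback (t k) (t' k')).map yoneda).map (presheafToSheaf J (Type u))).isoPullback
    (isQC_eps (hC _))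

end Groth.Agent.ToposFinLib
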