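import Groth.Agent.ToposFinLib.Alg
import Mathlib.CategoryTheory.Limits.Types.Filtered
import Mathlib.CategoryTheory.Sites.LocallyInjective
import Mathlib.CategoryTheory.Filtered.Basic
/-!
Filtered colimits in a sheaf topos: quasi-compact and coherent objects.
-/

set_option backward.isDefEq.respectTransparency false
set_option backward.isDefEq.respectTransparency.types false

universe u

open CategoryTheory CategoryTheory.Limits Opposite

namespace Groth.Agent.ToposFinLib

open ToposFin

variable {C : Type u} [SmallCategory C] {J : GrothendieckTopology C}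

/-! ### Descent of morphisms along covers -/

/-- Compatible morphisms on a cover descend. -/
theorem exists_glue {ι : Type*} {F : ι → Sh J} {X : Sh J} {π : ∀ i, F i ⟶ X} (hπ : Cov π) {Z : Sh J}
    (m : ∀ i, F i ⟶ Z) (hm : ∀ i j, pullback.fst (π i) (π j) ≫ m i = pullback.snd (π i) (π j) ≫ m j) :
    ∃ h : X ⟶ Z, ∀ i, π i ≫ h = m i := by
  have key : ∀ {U : C} (i j : ι) (y : (F i).obj.obj (op U)) (y' : (F j).obj.obj (op U)),
      (π i).hom.app _ y = (π j).hom.app _ y' → (m i).hom.app _ y = (m j).hom.app _ y' := by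
    intro U i j y y' e
    apply el.injective
    rw [← el_comp, ← el_comp]
    have w : el y ≫ π i = el y' ≫ π j := by rw [el_comp, el_comp, e]
    conv_lhs => rw [← pullback.lift_fst (el y) (el y') w, Category.assoc, hm i j]
    rw [pullback.lift_snd_assoc]
  let fam : ∀ (U : C) (x : X.obj.obj (op U)), Presieve.FamilyOfElements Z.obj (imgSieve π x).arrows :=
    fun U x V f hf => (m hf.choose).hom.app _ hf.choose_spec.choose
  have hfam : ∀ (U : C) (x : X.obj.obj (op U)) {V : C} (f : V ⟶ U) (hf : imgSieve π x f) (i : ι)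
      (y : (F i).obj.obj (op V)), (π i).hom.app _ y = X.obj.map f.op x → fam U x f hf = (m i).hom.app _ y :=
    fun U x V f hf i y e => key _ _ _ _ (hf.choose_spec.choose_spec.trans e.symm)
  have hc : ∀ (U : C) (x : X.obj.obj (op U)), (fam U x).Compatible := by
    intro U x Y₁ Y₂ W g₁ g₂ f₁ f₂ h₁ h₂ hg
    simp only [fam, ← NatTrans.naturality_apply]
    refine key _ _ _ _ ?_
    rw [NatTrans.naturality_apply, NatTrans.naturality_apply, h₁.choose_spec.choose_spec, h₂.choose_spec.choose_spec,
      ← Functor.map_comp_apply, ← Functor.map_comp_apply, ← op_comp, ← op_comp, hg]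
  have hex : ∀ (U : C) (x : X.obj.obj (op U)), ∃ z : Z.obj.obj (op U), (fam U x).IsAmalgamation z := fun U x =>
    (((isSheaf_iff_isSheaf_of_type J Z.obj).1 Z.property) _ (local_of_cov hπ U x) (fam U x) (hc U x)).exists
  choose z hz using hex
  have hval : ∀ (U : C) (x : X.obj.obj (op U)) {V : C} (f : V ⟶ U) (i : ι) (y : (F i).obj.obj (op V)),
      (π i).hom.app _ y = X.obj.map f.op x → Z.obj.map f.op (z U x) = (m i).hom.app _ y := fun U x V f i y e =>
    (hz U x f ⟨i, y, e⟩).trans (hfam U x f _ i y e)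
  let h : X ⟶ Z := ⟨{
    app := fun U => TypeCat.ofHom fun x => z U.unop x
    naturality := fun U V g => by
      ext x
      refine sheaf_ext (local_of_cov hπ V.unop (X.obj.map g x)) fun W f hf => ?_
      obtain ⟨i, y, e⟩ := hf
      change Z.obj.map f.op (z _ (X.obj.map g x)) = Z.obj.map f.op (Z.obj.map g (z U.unop x))
      rw [hval _ _ f i y e, ← Functor.map_comp_apply]
      refine (hval U.unop x (f ≫ g.unop) i y ?_).symm
      rw [e, op_comp, Functor.map_comp_apply]
      rfl }⟩
  refine ⟨h, fun i => hom_ext_app fun U y => ?_⟩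
  have := hval U ((π i).hom.app _ y) (𝟙 U) i y (by simp)
  simpa [h] using this

theorem cov_el_map {U : C} {ι : Type*} {V : ι → C} (g : ∀ i, V i ⟶ U) (h : Sieve.ofArrows V g ∈ J U) :
    Cov (fun i => (presheafToSheaf J (Type u)).map (yoneda.map (g i))) := cov_eps_map g h

/-! ### Filtered colimits -/

section Filtered

variable {I : Type u} [SmallCategory I] {D : I ⥤ Sh J}

theorem cov_colimit_ι (D : I ⥤ Sh J) : Cov (fun i => colimit.ι D i) := fun _ _ _ h => colimit.hom_ext h

/-- Maps into a filtered colimit are equalized locally at a finite stage. -/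
theorem cov_equalizer_of_colimit_eq [IsFiltered I] {X : Sh J} {i : I} (f g : X ⟶ D.obj i)
    (e : f ≫ colimit.ι D i = g ≫ colimit.ι D i) :
    Cov (fun j : Under i => equalizer.ι (f ≫ D.map j.hom) (g ≫ D.map j.hom)) := by
  let G := D ⋙ sheafToPresheaf J (Type u)
  let c := Sheaf.sheafifyCocone (J := J) (colimit.cocone G)
  have hc : IsColimit c := Sheaf.isColimitSheafifyCocone _ (colimit.isColimit G)
  have e' : f ≫ c.ι.app i = g ≫ c.ι.app i := by
    have := congrArg (fun z => z ≫ (colimit.isColimit D).desc c) e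
    simpa using this
  refine cov_of_local _ fun U x => ?_
  have e2 : (toSheafify J (colimit G)).app (op U) ((colimit.ι G i).app (op U) (f.hom.app _ x)) =
      (toSheafify J (colimit G)).app (op U) ((colimit.ι G i).app (op U) (g.hom.app _ x)) :=
    by
      have := congrArg (fun z : X ⟶ c.pt => z.hom.app (op U) x) e'
      have hh : ∀ k : X ⟶ D.obj i, (k ≫ c.ι.app i).hom = k.hom ≫ colimit.ι G i ≫ toSheafify J (colimit G) := fun k =>
        congrArg (k.hom ≫ ·) (Sheaf.sheafifyCocone_ι_app_val (colimit.cocone G) i)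
      rw [hh, hh] at this
      exact this
  refine J.superset_covering (fun V w hw => ?_) (Presheaf.equalizerSieve_mem J (toSheafify J (colimit G)) _ _ e2)
  let Gc := G ⋙ (evaluation Cᵒᵖ (Type u)).obj (op V)
  have hV : IsColimit (((evaluation Cᵒᵖ (Type u)).obj (op V)).mapCocone (colimit.cocone G)) :=
    isColimitOfPreserves _ (colimit.isColimit G)
  have e3 : (colimit.ι G i).app (op V) ((D.obj i).obj.map w.op (f.hom.app _ x)) =
      (colimit.ι G i).app (op V) ((D.obj i).obj.map w.op (g.hom.app _ x)) :=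
    (NatTrans.naturality_apply (colimit.ι G i) w.op _).trans
      ((hw : _ = _).trans (NatTrans.naturality_apply (colimit.ι G i) w.op _).symm)
  obtain ⟨j, u, hu⟩ := (Types.FilteredColimit.isColimit_eq_iff' hV _ _).1 e3
  refine ⟨Under.mk u, ?_⟩
  have e4 : el (X.obj.map w.op x) ≫ f ≫ D.map u = el (X.obj.map w.op x) ≫ g ≫ D.map u := by
    rw [← Category.assoc, ← Category.assoc, el_comp, el_comp, el_comp, el_comp,
      NatTrans.naturality_apply f.hom w.op, NatTrans.naturality_apply g.hom w.op]
    exact congrArg el hu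
  obtain ⟨y, hy⟩ := el.surjective (equalizer.lift (el (X.obj.map w.op x)) e4)
  refine ⟨y, el.injective ((el_comp y _).symm.trans ?_)⟩
  rw [hy]
  exact equalizer.lift_ι _ _

/-- Maps out of a quasi-compact object equalized by a colimit are equalized at a finite stage. -/
theorem exists_eq_of_colimit_eq [IsFiltered I] {X : Sh J} (hX : IsQC X) {i : I} (f g : X ⟶ D.obj i)
    (e : f ≫ colimit.ι D i = g ≫ colimit.ι D i) : ∃ (j : I) (u : i ⟶ j), f ≫ D.map u = g ≫ D.map u := by
  classical
  obtain ⟨s, hs⟩ := IsQC.exists_finset hX (cov_equalizer_of_colimit_eq f g e)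
  obtain ⟨k, hk⟩ := IsFiltered.sup_objs_exists (s.image (id : Under i → Under i))
  refine ⟨k.right, k.hom, hs _ _ _ fun j => ?_⟩
  obtain ⟨l⟩ := hk (Finset.mem_image_of_mem id j.2)
  have := congrArg (fun z => z ≫ D.map l.right) (equalizer.condition (f ≫ D.map j.1.hom) (g ≫ D.map j.1.hom))
  simpa only [Category.assoc, ← D.map_comp, Under.w] using this

theorem exists_eq_pairs [IsFiltered I] {α : Type*} [Finite α] {W : α → Sh J} (hW : ∀ a, IsQC (W a)) {i : I}
    (f g : ∀ a, W a ⟶ D.obj i) (e : ∀ a, f a ≫ colimit.ι D i = g a ≫ colimit.ι D i) :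
    ∃ (j : I) (u : i ⟶ j), ∀ a, f a ≫ D.map u = g a ≫ D.map u := by
  classical
  choose j u hu using fun a => exists_eq_of_colimit_eq (hW a) (f a) (g a) (e a)
  have := Fintype.ofFinite α
  obtain ⟨k, hk⟩ := IsFiltered.sup_objs_exists (insert (Under.mk (𝟙 i)) (Finset.univ.image fun a => Under.mk (u a)))
  refine ⟨k.right, k.hom, fun a => ?_⟩
  obtain ⟨l⟩ := hk (Finset.mem_insert_of_mem (Finset.mem_image_of_mem (fun a => Under.mk (u a)) (Finset.mem_univ a)))
  have := congrArg (fun z => z ≫ D.map l.right) (hu a)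
  have hl : u a ≫ l.right = k.hom := Under.w l
  simpa only [Category.assoc, ← D.map_comp, hl] using this

/-- A map from a coherent object into a filtered colimit factors through a finite stage. -/
theorem exists_factor [IsFiltered I] (hE : HasQCGenerators J) {X : Sh J} (hX : IsCoherent X) (f : X ⟶ colimit D) :
    ∃ (i : I) (f' : X ⟶ D.obj i), f' ≫ colimit.ι D i = f := by
  classical
  obtain ⟨κ, _, W, w, hW, hw, hl⟩ := exists_lift_cov (gen_of_hasQCGenerators hE) (cov_colimit_ι D) f hX.1
  choose i m hm using hl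
  have := Fintype.ofFinite κ
  obtain ⟨k, hk⟩ := IsFiltered.sup_objs_exists (Finset.univ.image i)
  have u : ∀ a, i a ⟶ k := fun a => (hk (Finset.mem_image_of_mem i (Finset.mem_univ a))).some
  let n : ∀ a, W a ⟶ D.obj k := fun a => m a ≫ D.map (u a)
  have hn : ∀ a, n a ≫ colimit.ι D k = w a ≫ f := fun a => by simp [n, hm]
  obtain ⟨j, v, hv⟩ := exists_eq_pairs (α := κ × κ) (W := fun p => pullback (w p.1) (w p.2))
    (fun p => hX.2 _ _ _ _ (hW p.1) (hW p.2))
    (fun p => pullback.fst (w p.1) (w p.2) ≫ n p.1) (fun p => pullback.snd (w p.1) (w p.2) ≫ n p.2)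
    (fun p => by simp only [Category.assoc, hn, pullback.condition_assoc])
  obtain ⟨h, hh⟩ := exists_glue hw (fun a => n a ≫ D.map v) fun a b => by simpa using hv (a, b)
  refine ⟨j, h, hw _ _ _ fun a => ?_⟩
  rw [reassoc_of% hh a, colimit.w, hn]

theorem post_injective_iff [IsFiltered I] (X : Sh J) :
    Function.Injective (colimit.post D (coyoneda.obj (op X))) ↔
      ∀ (i : I) (f g : X ⟶ D.obj i), f ≫ colimit.ι D i = g ≫ colimit.ι D i →
        ∃ (j : I) (u : i ⟶ j), f ≫ D.map u = g ≫ D.map u := by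
  have hi : ∀ (i : I) (f : X ⟶ D.obj i), colimit.post D (coyoneda.obj (op X))
      (colimit.ι (D ⋙ coyoneda.obj (op X)) i f) = f ≫ colimit.ι D i := fun i f =>
    ConcreteCategory.congr_hom (colimit.ι_post D (coyoneda.obj (op X)) i) f
  constructor
  · intro h i f g e
    obtain ⟨j, u, hu⟩ := (Types.FilteredColimit.isColimit_eq_iff' (colimit.isColimit (D ⋙ coyoneda.obj (op X))) f g).1
      (h (((hi i f).trans e).trans (hi i g).symm))
    exact ⟨j, u, hu⟩
  · intro h a b e
    obtain ⟨i, f, rfl⟩ := Types.jointly_surjective' a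
    obtain ⟨j, g, rfl⟩ := Types.jointly_surjective' b
    rw [hi, hi] at e
    obtain ⟨k, u, hu⟩ := h (IsFiltered.max i j) (f ≫ D.map (IsFiltered.leftToMax i j))
      (g ≫ D.map (IsFiltered.rightToMax i j)) (by simpa using e)
    refine (Types.FilteredColimit.isColimit_eq_iff _ (colimit.isColimit (D ⋙ coyoneda.obj (op X)))).2
      ⟨k, IsFiltered.leftToMax i j ≫ u, IsFiltered.rightToMax i j ≫ u, ?_⟩
    simpa using hu

theorem post_surjective_iff (X : Sh J) :
    Function.Surjective (colimit.post D (coyoneda.obj (op X))) ↔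
      ∀ f : X ⟶ colimit D, ∃ (i : I) (f' : X ⟶ D.obj i), f' ≫ colimit.ι D i = f := by
  have hi : ∀ (i : I) (f : X ⟶ D.obj i), colimit.post D (coyoneda.obj (op X))
      (colimit.ι (D ⋙ coyoneda.obj (op X)) i f) = f ≫ colimit.ι D i := fun i f =>
    ConcreteCategory.congr_hom (colimit.ι_post D (coyoneda.obj (op X)) i) f
  constructor
  · intro h f
    obtain ⟨a, ha⟩ := h f
    obtain ⟨i, f', rfl⟩ := Types.jointly_surjective' a
    exact ⟨i, f', (hi i f').symm.trans ha⟩
  · intro h f
    obtain ⟨i, f', hf⟩ := h f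
    exact ⟨_, (hi i f').trans hf⟩

end Filtered

theorem isFP_iff {X : Sh J} : IsFP X ↔ ∀ (I : Type u) [SmallCategory I] [IsFiltered I] (D : I ⥤ Sh J),
    (∀ (i : I) (f g : X ⟶ D.obj i), f ≫ colimit.ι D i = g ≫ colimit.ι D i →
      ∃ (j : I) (u : i ⟶ j), f ≫ D.map u = g ≫ D.map u) ∧
    (∀ f : X ⟶ colimit D, ∃ (i : I) (f' : X ⟶ D.obj i), f' ≫ colimit.ι D i = f) :=
  ⟨fun h I _ _ D => ⟨(post_injective_iff X).1 (h I D).1, (post_surjective_iff X).1 (h I D).2⟩,
    fun h I _ _ D => ⟨(post_injective_iff X).2 (h I D).1, (post_surjective_iff X).2 (h I D).2⟩⟩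

theorem isFP_of_isCoherent (hE : HasQCGenerators J) {X : Sh J} (hX : IsCoherent X) : IsFP X :=
  isFP_iff.2 fun _ _ _ _ => ⟨fun _ f g e => exists_eq_of_colimit_eq hX.1 f g e, fun f => exists_factor hE hX f⟩

end Groth.Agent.ToposFinLib
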