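import Groth.Agent.ToposFinLib.Local
/-!
Algebraic and locally coherent topoi: generating sets of quasi-compact objects stable under fibre products.
-/

set_option backward.isDefEq.respectTransparency false
set_option backward.isDefEq.respectTransparency.types false

universe u

open CategoryTheory CategoryTheory.Limits Opposite

namespace Groth.Agent.ToposFinLib

open ToposFin

variable {C : Type u} [SmallCategory C] {J : GrothendieckTopology C}

theorem gen_of_isGenerating {S : Set (Sh J)} (hgen : IsGenerating S) (X : Sh J) :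
    ∃ (ι : Type u) (F : ι → Sh J) (π : ∀ i, F i ⟶ X), (∀ i, F i ∈ S) ∧ Cov π := hgen X

theorem hasQC_of_isGenerating {S : Set (Sh J)} (hqc : ∀ K ∈ S, IsQC K) (hgen : IsGenerating S) : HasQCGenerators J :=
  hasQCGenerators_of_gen hqc (gen_of_isGenerating hgen)

theorem exists_pullback_mem {S : Set (Sh J)} (hpb : ClosedUnderPullbacks S) {K L M : Sh J} (a : K ⟶ M) (b : L ⟶ M)
    (hK : K ∈ S) (hL : L ∈ S) (hM : M ∈ S) : ∃ P ∈ S, Nonempty (P ≅ pullback a b) :=
  let ⟨P, _, _, hP, h⟩ := hpb a b hK hL hM; ⟨P, hP, ⟨h.isoPullback⟩⟩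

theorem isCoherent_of_mem {S : Set (Sh J)} (hqc : ∀ K ∈ S, IsQC K) (hgen : IsGenerating S)
    (hpb : ClosedUnderPullbacks S) {K : Sh J} (hK : K ∈ S) : IsCoherent K :=
  ⟨hqc K hK, isQS_of_gen (P := (· ∈ S)) (gen_of_isGenerating hgen) fun a b hA hB =>
    let ⟨P, hP, ⟨e⟩⟩ := exists_pullback_mem hpb a b hA hB hK
    isQC_of_iso e (hqc P hP)⟩

theorem isCoherent_pullback_mem {S : Set (Sh J)} (hqc : ∀ K ∈ S, IsQC K) (hgen : IsGenerating S)
    (hpb : ClosedUnderPullbacks S) {K L M : Sh J} (a : K ⟶ M) (b : L ⟶ M) (hK : K ∈ S) (hL : L ∈ S) (hM : M ∈ S) :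
    IsCoherent (pullback a b) :=
  let ⟨_, hP, ⟨e⟩⟩ := exists_pullback_mem hpb a b hK hL hM
  isCoherent_of_iso e (isCoherent_of_mem hqc hgen hpb hP)

theorem hasCoherentGenerators_of_isGenerating {S : Set (Sh J)} (hqc : ∀ K ∈ S, IsQC K) (hgen : IsGenerating S)
    (hpb : ClosedUnderPullbacks S) : HasCoherentGenerators J := fun X =>
  let ⟨ι, F, π, hF, hπ⟩ := gen_of_isGenerating hgen X
  ⟨ι, F, π, fun i => isCoherent_of_mem hqc hgen hpb (hF i), (cov_iff_epi π).1 hπ⟩

/-- A morphism to a member of a pullback-stable generating set is quasi-separated if its source is. -/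
theorem isQSHom_to_mem {S : Set (Sh J)} (hqc : ∀ K ∈ S, IsQC K) (hgen : IsGenerating S)
    (hpb : ClosedUnderPullbacks S) {X K : Sh J} (f : X ⟶ K) (hK : K ∈ S) (hX : IsQS X) : IsQSHom f :=
  let ⟨_, _, _, hF, hπ⟩ := gen_of_isGenerating hgen X
  isQSHom_of_isQS (hasQC_of_isGenerating hqc hgen) f hπ (fun i => hqc _ (hF i))
    (fun i j => (isCoherent_pullback_mem hqc hgen hpb _ _ (hF i) (hF j) hK).2) hX

/-- Products of two members of an algebraic generating set are quasi-separated. -/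
theorem isQS_prod_mem {S : Set (Sh J)} (hqc : ∀ K ∈ S, IsQC K) (hgen : IsGenerating S)
    (hpb : ClosedUnderPullbacks S) (heq : ClosedUnderEqualizers S) {L L' : Sh J} (hL : L ∈ S) (hL' : L' ∈ S) :
    IsQS (L ⨯ L') := by
  refine isQS_of_gen (P := (· ∈ S)) (gen_of_isGenerating hgen) fun {A B} a b hA hB => ?_
  obtain ⟨P, p, q, hP, h⟩ := hpb (a ≫ prod.fst) (b ≫ prod.fst) hA hB hL
  obtain ⟨E, e, w, hE, ⟨he⟩⟩ := heq (p ≫ a ≫ prod.snd) (q ≫ b ≫ prod.snd) hP hL'
  have h' := (isPullback_equalizer a b h).isoPullback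
  refine isQC_of_iso h' (isQC_equalizer_congr (fun {W} k => ?_)
    (isQC_of_iso (he.conePointUniqueUpToIso (limit.isLimit (parallelPair _ _))) (hqc E hE)))
  constructor
  · intro hk
    refine Limits.prod.hom_ext ?_ ?_
    · simp [h.w]
    · simpa using hk
  · intro hk
    simpa using congrArg (fun z => z ≫ (prod.snd : L ⨯ L' ⟶ _)) hk

/-- In an algebraic topos every morphism out of a quasi-separated object is quasi-separated. -/
theorem isQSHom_of_isAlgebraic (hE : IsAlgebraic J) {X Y : Sh J} (f : X ⟶ Y) (hX : IsQS X) : IsQSHom f := by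
  obtain ⟨S, hqc, hgen, hpb, heq⟩ := hE
  obtain ⟨ι, F, π, hF, hπ⟩ := gen_of_isGenerating hgen X
  refine isQSHom_of_isQS (hasQC_of_isGenerating hqc hgen) f hπ (fun i => hqc _ (hF i)) (fun i j => ?_) hX
  let l : pullback (π i ≫ f) (π j ≫ f) ⟶ F i ⨯ F j := prod.lift (pullback.fst _ _) (pullback.snd _ _)
  have : Mono l := ⟨fun u v e => pullback.hom_ext
    (by simpa [l] using congrArg (fun z => z ≫ (prod.fst : F i ⨯ F j ⟶ _)) e)
    (by simpa [l] using congrArg (fun z => z ≫ (prod.snd : F i ⨯ F j ⟶ _)) e)⟩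
  exact isQS_of_mono l (isQS_prod_mem hqc hgen hpb heq (hF i) (hF j))

theorem hasQC_of_isAlgebraic (hE : IsAlgebraic J) : HasQCGenerators J :=
  let ⟨_, hqc, hgen, _, _⟩ := hE; hasQC_of_isGenerating hqc hgen

theorem isQS_pullback_congr {X Y T : Sh J} {f f' : X ⟶ Y} {g g' : T ⟶ Y} (ef : f = f') (eg : g = g')
    (h : IsQS (pullback f g)) : IsQS (pullback f' g') := by
  subst ef; subst eg; exact h

theorem isQSHom_to_eps [HasPullbacks C] (hC : ∀ X : C, IsQCSite J X) {X : C} {G : Sh J} (g : G ⟶ eps J X)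
    (hG : IsQS G) : IsQSHom g := by
  have hE : HasQCGenerators J :=
    hasQCGenerators_of_gen (P := fun A => ∃ U, A = eps J U) (fun _ ⟨_, e⟩ => e ▸ isQC_eps (hC _)) gen_eps
  obtain ⟨ι, U, π, hπ⟩ := cov_eps G
  choose κ W w t hw ht using fun i => exists_local_eps (π i ≫ g)
  refine isQSHom_of_isQS hE g (cov_comp hπ hw) (fun p => isQC_eps (hC _)) (fun p q => ?_) hG
  refine isQS_pullback_congr ((Category.assoc _ _ _).trans (ht p.1 p.2)).symm
    ((Category.assoc _ _ _).trans (ht q.1 q.2)).symm ?_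
  exact isQS_of_iso
    (((IsPullback.of_hasPullback (t p.1 p.2) (t q.1 q.2)).map yoneda).map (presheafToSheaf J (Type u))).isoPullback
    (isCoherent_eps hC _).2

/-- The inverse image preserves jointly epimorphic families. -/
theorem cov_map_of_adj {D : Type u} [SmallCategory D] {K : GrothendieckTopology D} {F : Sh K ⥤ Sh J}
    {R : Sh J ⥤ Sh K} (adj : F ⊣ R) {ι : Type*} {G : ι → Sh K} {X : Sh K} {π : ∀ i, G i ⟶ X} (h : Cov π) :
    Cov (fun i => F.map (π i)) := fun Z a b e =>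
  (adj.homEquiv X Z).injective (h _ _ _ fun i => by
    rw [← adj.homEquiv_naturality_left, ← adj.homEquiv_naturality_left, e i])

end Groth.Agent.ToposFinLib
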