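import Groth.Prelude.Def_ToposFin2
import Mathlib.CategoryTheory.Sites.Closed
import Mathlib.CategoryTheory.Sites.Limits
/-!
Jointly epimorphic families in a topos of sheaves of sets on a small site: the local criterion,
stability under base change, and the covering by representables.
-/

universe u

open CategoryTheory CategoryTheory.Limits Opposite

namespace Groth.Agent.ToposFinLib

open ToposFin

variable {C : Type u} [SmallCategory C] {J : GrothendieckTopology C}

/-- A jointly epimorphic family. -/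
def Cov {ι : Type*} {F : ι → Sh J} {X : Sh J} (π : ∀ i, F i ⟶ X) : Prop :=
  ∀ (Z : Sh J) (a b : X ⟶ Z), (∀ i, π i ≫ a = π i ≫ b) → a = b

theorem cov_iff_epi {ι : Type u} {F : ι → Sh J} {X : Sh J} (π : ∀ i, F i ⟶ X) :
    Cov π ↔ Epi (Sigma.desc π) := by
  refine ⟨fun h => ⟨fun {Z} a b e => h Z a b fun i => ?_⟩, fun h Z a b e => ?_⟩
  · simpa using congrArg (Sigma.ι F i ≫ ·) e
  · exact (cancel_epi (Sigma.desc π)).1 (Sigma.hom_ext _ _ fun i => by simpa using e i)

theorem cov_iff_epi_fin {n : ℕ} {F : Fin n → Sh J} {X : Sh J} (π : ∀ i, F i ⟶ X) :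
    Cov π ↔ Epi (Sigma.desc π) := by
  refine ⟨fun h => ⟨fun {Z} a b e => h Z a b fun i => ?_⟩, fun h Z a b e => ?_⟩
  · simpa using congrArg (Sigma.ι F i ≫ ·) e
  · exact (cancel_epi (Sigma.desc π)).1 (Sigma.hom_ext _ _ fun i => by simpa using e i)

/-- Sections as morphisms from the sheaf of a representable. -/
noncomputable def el {X : Sh J} {U : C} : X.obj.obj (op U) ≃ (eps J U ⟶ X) :=
  yonedaEquiv.symm.trans ((sheafificationAdjunction J (Type u)).homEquiv (yoneda.obj U) X).symm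

theorem el_comp {X Y : Sh J} {U : C} (x : X.obj.obj (op U)) (g : X ⟶ Y) :
    el x ≫ g = el (g.hom.app _ x) := by
  simp only [el, Equiv.trans_apply]
  rw [← Adjunction.homEquiv_naturality_right_symm]
  congr 1
  apply yonedaEquiv.injective
  rw [yonedaEquiv_comp]
  simp

theorem el_map {X : Sh J} {U V : C} (x : X.obj.obj (op U)) (f : V ⟶ U) :
    (presheafToSheaf J (Type u)).map (yoneda.map f) ≫ el x = el (X.obj.map f.op x) := by
  simp only [el, Equiv.trans_apply]
  rw [← Adjunction.homEquiv_naturality_left_symm]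
  congr 1
  exact (yonedaEquiv_symm_map f.op x).symm

variable (J) in
/-- The sheaf of closed sieves. -/
noncomputable def omega : Sh J :=
  ⟨(Functor.closedSieves J).toFunctor, (isSheaf_iff_isSheaf_of_type _ _).2 (classifier_isSheaf J)⟩

/-- The sieve where a section is locally in the image of a family. -/
def imgSieve {ι : Type*} {F : ι → Sh J} {X : Sh J} (π : ∀ i, F i ⟶ X) {U : C} (x : X.obj.obj (op U)) : Sieve U where
  arrows V f := ∃ (i : ι) (y : (F i).obj.obj (op V)), (π i).hom.app _ y = X.obj.map f.op x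
  downward_closed {V W f} h g := by
    obtain ⟨i, y, hy⟩ := h
    refine ⟨i, (F i).obj.map g.op y, ?_⟩
    rw [NatTrans.naturality_apply, hy, op_comp, Functor.map_comp_apply]

theorem imgSieve_pullback {ι : Type*} {F : ι → Sh J} {X : Sh J} (π : ∀ i, F i ⟶ X) {U V : C}
    (x : X.obj.obj (op U)) (f : V ⟶ U) : imgSieve π (X.obj.map f.op x) = (imgSieve π x).pullback f := by
  ext W g
  change (∃ i y, _ = X.obj.map g.op (X.obj.map f.op x)) ↔ ∃ i y, _ = X.obj.map (g ≫ f).op x
  simp only [op_comp, Functor.map_comp_apply]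

theorem sheaf_ext {Z : Sh J} {U : C} {S : Sieve U} (hS : S ∈ J U) {z z' : Z.obj.obj (op U)}
    (h : ∀ ⦃V : C⦄ (f : V ⟶ U), S f → Z.obj.map f.op z = Z.obj.map f.op z') : z = z' :=
  (((isSheaf_iff_isSheaf_of_type J Z.obj).1 Z.property) S hS).isSeparatedFor.ext h

theorem hom_ext_app {X Y : Sh J} {a b : X ⟶ Y}
    (h : ∀ (U : C) (x : X.obj.obj (op U)), a.hom.app (op U) x = b.hom.app (op U) x) : a = b :=
  Sheaf.hom_ext (NatTrans.ext (funext fun U => ConcreteCategory.hom_ext _ _ fun x => h U.unop x))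

theorem cov_of_local {ι : Type*} {F : ι → Sh J} {X : Sh J} (π : ∀ i, F i ⟶ X)
    (h : ∀ (U : C) (x : X.obj.obj (op U)), imgSieve π x ∈ J U) : Cov π := by
  intro Z a b e
  refine hom_ext_app fun U x => ?_
  refine sheaf_ext (h U x) fun V f ⟨i, y, hy⟩ => ?_
  rw [← NatTrans.naturality_apply, ← NatTrans.naturality_apply, ← hy]
  exact congrArg (fun k => k.hom.app (op V) y) (e i)

theorem local_of_cov {ι : Type*} {F : ι → Sh J} {X : Sh J} {π : ∀ i, F i ⟶ X} (h : Cov π) (U : C)
    (x : X.obj.obj (op U)) : imgSieve π x ∈ J U := by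
  let a : X ⟶ omega J := ⟨{
    app := fun V => TypeCat.ofHom fun z => ⟨J.close (imgSieve π z), J.close_isClosed _⟩
    naturality := fun V W f => by
      ext z
      refine Subtype.ext ?_
      change J.close (imgSieve π (X.obj.map f z)) = (J.close (imgSieve π z)).pullback f.unop
      rw [← J.pullback_close, ← imgSieve_pullback]
      rfl }⟩
  let b : X ⟶ omega J := ⟨{
    app := fun V => TypeCat.ofHom fun _ => ⟨(⊤ : Sieve V.unop), fun _ _ _ => trivial⟩
    naturality := fun V W f => by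
      ext z
      exact Subtype.ext (Sieve.pullback_top).symm }⟩
  have hab : a = b := h _ a b fun i => hom_ext_app fun V y => by
    refine Subtype.ext ?_
    change J.close (imgSieve π ((π i).hom.app (op V) y)) = (⊤ : Sieve V)
    rw [J.close_eq_top_iff_mem]
    refine J.superset_covering (fun W g _ => ?_) (J.top_mem _)
    exact ⟨i, (F i).obj.map g.op y, NatTrans.naturality_apply _ _ _⟩
  have h2 : (a.hom.app (op U) x).val = (b.hom.app (op U) x).val := by rw [hab]
  exact (J.close_eq_top_iff_mem _).1 h2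

theorem cov_el (X : Sh J) : Cov (fun p : Σ U : C, X.obj.obj (op U) => el p.2) := by
  intro Z a b h
  refine hom_ext_app fun U x => ?_
  have := h ⟨U, x⟩
  rw [el_comp, el_comp] at this
  exact el.injective this

theorem cov_pullback {ι : Type*} {F P : ι → Sh J} {X Y : Sh J} {π : ∀ i, F i ⟶ X} (h : Cov π)
    {p : ∀ i, P i ⟶ F i} {q : ∀ i, P i ⟶ Y} {g : Y ⟶ X} (hP : ∀ i, IsPullback (p i) (q i) (π i) g) :
    Cov q := by
  refine cov_of_local q fun U y => J.superset_covering (fun V f hf => ?_) (local_of_cov h U (g.hom.app _ y))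
  obtain ⟨i, z, hz⟩ := hf
  have e : el z ≫ π i = el (Y.obj.map f.op y) ≫ g := by
    rw [el_comp, el_comp, hz, NatTrans.naturality_apply]
  obtain ⟨w, hw⟩ := el.surjective ((hP i).lift _ _ e)
  refine ⟨i, w, el.injective ?_⟩
  rw [← el_comp, hw, IsPullback.lift_snd]

theorem cov_pullback' {ι : Type*} {F : ι → Sh J} {X Y : Sh J} {π : ∀ i, F i ⟶ X} (h : Cov π) (g : Y ⟶ X) :
    Cov (fun i => pullback.fst g (π i)) :=
  cov_pullback h fun i => (IsPullback.of_hasPullback g (π i)).flip

theorem cov_id (X : Sh J) : Cov (fun _ : PUnit => 𝟙 X) := fun _ a b h => by simpa using h PUnit.unit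

theorem cov_of_factor {ι κ : Type*} {F : ι → Sh J} {G : κ → Sh J} {X : Sh J} {π : ∀ i, F i ⟶ X}
    {σ : ∀ k, G k ⟶ X} (h : Cov σ) (hf : ∀ k, ∃ i, ∃ m : G k ⟶ F i, m ≫ π i = σ k) : Cov π :=
  fun Z a b e => h Z a b fun k => by
    obtain ⟨i, m, hm⟩ := hf k
    rw [← hm, Category.assoc, Category.assoc, e i]

theorem cov_comp {ι : Type*} {κ : ι → Type*} {F : ι → Sh J} {G : ∀ i, κ i → Sh J} {X : Sh J}
    {π : ∀ i, F i ⟶ X} (h : Cov π) {σ : ∀ i k, G i k ⟶ F i} (hσ : ∀ i, Cov (σ i)) :
    Cov (fun p : Σ i, κ i => σ p.1 p.2 ≫ π p.1) := fun Z a b e =>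
  h Z a b fun i => hσ i Z _ _ fun k => by simpa using e ⟨i, k⟩

theorem cov_comp_post {ι : Type*} {F : ι → Sh J} {X Y : Sh J} {π : ∀ i, F i ⟶ X} (h : Cov π) (g : X ⟶ Y) [Epi g] :
    Cov (fun i => π i ≫ g) := fun Z a b e =>
  (cancel_epi g).1 (h Z _ _ fun i => by simpa using e i)

theorem cov_sigma_ι {ι : Type u} (F : ι → Sh J) : Cov (Sigma.ι F) := fun _ _ _ h => Sigma.hom_ext _ _ h

end Groth.Agent.ToposFinLib
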