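import Groth.Agent.ToposFinLib.QC
/-!
Quasi-separated objects and morphisms of a sheaf topos, via equalizers.
-/

set_option backward.isDefEq.respectTransparency false
set_option backward.isDefEq.respectTransparency.types false

universe u

open CategoryTheory CategoryTheory.Limits Opposite

namespace Groth.Agent.ToposFinLib

open ToposFin

variable {C : Type u} [SmallCategory C] {J : GrothendieckTopology C}

theorem isPullback_diagonal {X Y T : Sh J} (f : X ⟶ Y) (a b : T ⟶ X) (w : a ≫ f = b ≫ f) :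
    IsPullback (equalizer.ι a b ≫ a) (equalizer.ι a b) (pullback.diagonal f) (pullback.lift a b w) := by
  refine ⟨⟨pullback.hom_ext (by simp) (by simpa using equalizer.condition a b)⟩, ⟨PullbackCone.IsLimit.mk _
    (fun s => equalizer.lift s.snd ?_) (fun s => ?_) (fun s => equalizer.lift_ι _ _) (fun s m _ h2 => ?_)⟩⟩
  · have h1 := congrArg (fun k => k ≫ pullback.fst f f) s.condition
    have h2 := congrArg (fun k => k ≫ pullback.snd f f) s.condition
    simp at h1 h2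
    rw [← h1, ← h2]
  · have h1 := congrArg (fun k => k ≫ pullback.fst f f) s.condition
    simp at h1
    rw [equalizer.lift_ι_assoc, ← h1]
  · exact equalizer.hom_ext (h2.trans (equalizer.lift_ι _ _).symm)

theorem isQSHom_iff {X Y : Sh J} {f : X ⟶ Y} :
    IsQSHom f ↔ ∀ {T : Sh J} (a b : T ⟶ X), a ≫ f = b ≫ f → IsQC T → IsQC (equalizer a b) := by
  refine ⟨fun h T a b w hT => isQCHom_iff.1 h (isPullback_diagonal f a b w) hT, fun h T g hT => ?_⟩
  have w : (g ≫ pullback.fst f f) ≫ f = (g ≫ pullback.snd f f) ≫ f := by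
    rw [Category.assoc, Category.assoc, pullback.condition]
  have e : pullback.lift _ _ w = g := by apply pullback.hom_ext <;> simp
  have := h _ _ w hT
  have hP := isPullback_diagonal f _ _ w
  rw [e] at hP
  exact isQC_of_iso hP.isoPullback this

/-- Comparison of equalizers with the same solutions. -/
theorem isQC_equalizer_congr {X Y T : Sh J} {a b : T ⟶ X} {c d : T ⟶ Y}
    (h : ∀ {W : Sh J} (w : W ⟶ T), w ≫ a = w ≫ b ↔ w ≫ c = w ≫ d) (hq : IsQC (equalizer a b)) :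
    IsQC (equalizer c d) :=
  isQC_of_iso
    { hom := equalizer.lift (equalizer.ι a b) ((h _).1 (equalizer.condition a b))
      inv := equalizer.lift (equalizer.ι c d) ((h _).2 (equalizer.condition c d))
      hom_inv_id := equalizer.hom_ext (by simp)
      inv_hom_id := equalizer.hom_ext (by simp) } hq

theorem isQC_equalizer_self {X T : Sh J} (a : T ⟶ X) (hT : IsQC T) : IsQC (equalizer a a) :=
  isQC_of_iso
    { hom := equalizer.lift (𝟙 T) rfl
      inv := equalizer.ι a a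
      hom_inv_id := by simp
      inv_hom_id := equalizer.hom_ext (by simp) } hT

theorem isQSHom_of_mono {X Y : Sh J} (f : X ⟶ Y) [Mono f] : IsQSHom f :=
  isQSHom_iff.2 fun {T} a b w hT => by
    obtain rfl : a = b := (cancel_mono f).1 w
    exact isQC_equalizer_self a hT

theorem isQSHom_of_comp {X Y Z : Sh J} {f : X ⟶ Y} {g : Y ⟶ Z} (h : IsQSHom (f ≫ g)) : IsQSHom f :=
  isQSHom_iff.2 fun a b w hT => isQSHom_iff.1 h a b (by rw [← Category.assoc, w, Category.assoc]) hT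

theorem isQSHom_comp {X Y Z : Sh J} {f : X ⟶ Y} {g : Y ⟶ Z} (hf : IsQSHom f) (hg : IsQSHom g) :
    IsQSHom (f ≫ g) := by
  refine isQSHom_iff.2 fun {T} a b w hT => ?_
  let e := equalizer.ι (a ≫ f) (b ≫ f)
  have h1 : IsQC (equalizer (a ≫ f) (b ≫ f)) := isQSHom_iff.1 hg _ _ (by simpa using w) hT
  have h2 : IsQC (equalizer (e ≫ a) (e ≫ b)) :=
    isQSHom_iff.1 hf _ _ (by simpa [e] using equalizer.condition (a ≫ f) (b ≫ f)) h1
  refine isQC_of_iso
    { hom := equalizer.lift (equalizer.ι _ _ ≫ e) (by simpa using equalizer.condition (e ≫ a) (e ≫ b))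
      inv := equalizer.lift (equalizer.lift (equalizer.ι a b) (by rw [equalizer.condition_assoc]))
        (by simpa [e] using equalizer.condition a b)
      hom_inv_id := ?_
      inv_hom_id := equalizer.hom_ext (by simp [e]) } h2
  apply equalizer.hom_ext
  apply equalizer.hom_ext
  simp [e]

theorem isQSHom_of_isPullback {X Y X' Y' : Sh J} {f : X ⟶ Y} {g : Y' ⟶ Y} {p : X' ⟶ X} {q : X' ⟶ Y'}
    (h : IsPullback p q f g) (hf : IsQSHom f) : IsQSHom q := by
  refine isQSHom_iff.2 fun {T} a b w hT => ?_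
  refine isQC_equalizer_congr (fun {W} k => ⟨fun hk => h.hom_ext (by simpa using hk) (by simp [w]),
    fun hk => by simpa using congrArg (· ≫ p) hk⟩) (isQSHom_iff.1 hf (a ≫ p) (b ≫ p) ?_ hT)
  rw [Category.assoc, Category.assoc, h.w, ← Category.assoc, w, Category.assoc]

theorem isCohHom_comp {X Y Z : Sh J} {f : X ⟶ Y} {g : Y ⟶ Z} (hf : IsCohHom f) (hg : IsCohHom g) :
    IsCohHom (f ≫ g) :=
  ⟨isQCHom_comp hf.1 hg.1, isQSHom_comp hf.2 hg.2⟩

theorem isPullback_equalizer {X Y Z : Sh J} (a : X ⟶ Z) (b : Y ⟶ Z) {P : Sh J} {p : P ⟶ X} {q : P ⟶ Y}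
    {W : Sh J} {f : Z ⟶ W} (hP : IsPullback p q (a ≫ f) (b ≫ f)) :
    IsPullback (equalizer.ι (p ≫ a) (q ≫ b) ≫ p) (equalizer.ι (p ≫ a) (q ≫ b) ≫ q) a b := by
  have key : ∀ s : PullbackCone a b, s.fst ≫ a ≫ f = s.snd ≫ b ≫ f := fun s => s.condition_assoc f
  refine ⟨⟨by simpa using equalizer.condition (p ≫ a) (q ≫ b)⟩, ⟨PullbackCone.IsLimit.mk _
    (fun s => equalizer.lift (hP.lift s.fst s.snd (key s)) (by simp [s.condition]))
    (fun s => by simp) (fun s => by simp) (fun s m h1 h2 => ?_)⟩⟩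
  refine equalizer.hom_ext (hP.hom_ext ?_ ?_) <;> simp [h1, h2]

/-- The source of a quasi-separated morphism to a quasi-separated object is quasi-separated. -/
theorem isQS_of_isQSHom {X Y : Sh J} {f : X ⟶ Y} (hf : IsQSHom f) (hY : IsQS Y) : IsQS X := fun A B a b hA hB =>
  have hP := IsPullback.of_hasPullback (a ≫ f) (b ≫ f)
  isQC_of_iso (isPullback_equalizer a b hP).isoPullback
    (isQSHom_iff.1 hf _ _ (by simpa using hP.w) (hY A B _ _ hA hB))

theorem isQS_of_mono {X Y : Sh J} (i : X ⟶ Y) [Mono i] (hY : IsQS Y) : IsQS X :=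
  isQS_of_isQSHom (isQSHom_of_mono i) hY

theorem isQS_of_iso {X Y : Sh J} (e : X ≅ Y) (h : IsQS X) : IsQS Y := isQS_of_mono e.inv h

theorem isCoherent_of_iso {X Y : Sh J} (e : X ≅ Y) (h : IsCoherent X) : IsCoherent Y :=
  ⟨isQC_of_iso e h.1, isQS_of_iso e h.2⟩

/-- Left cancellation of quasi-compact morphisms. -/
theorem isQCHom_of_comp {X Y Z : Sh J} {f : X ⟶ Y} {g : Y ⟶ Z} (hg : IsQSHom g) (h : IsQCHom (f ≫ g)) :
    IsQCHom f := fun T t hT =>
  have hP := IsPullback.of_hasPullback (f ≫ g) (t ≫ g)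
  isQC_of_iso (isPullback_equalizer f t hP).isoPullback
    (isQSHom_iff.1 hg _ _ (by simpa using hP.w) (h T _ hT))

theorem isQCHom_of_isQS {X Y : Sh J} (f : X ⟶ Y) (hX : IsQC X) (hY : IsQS Y) : IsQCHom f :=
  fun _ g hT => hY _ _ f g hX hT

/-! ### Localisation on covers -/

/-- A pullback is quasi-compact if it is so over a finite cover. -/
theorem isQC_pullback_of_cov {X Y T : Sh J} (f : X ⟶ Y) (s : T ⟶ Y) {κ : Type*} [Finite κ] {W : κ → Sh J}
    {w : ∀ k, W k ⟶ T} (hw : Cov w) (h : ∀ k, IsQC (pullback f (w k ≫ s))) : IsQC (pullback f s) :=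
  isQC_of_finite_cov (cov_pullback' hw (pullback.snd f s)) fun k =>
    isQC_of_iso (pullbackLeftPullbackSndIso f s (w k)).symm (h k)

theorem isQC_equalizer_of_cov {X T : Sh J} (a b : T ⟶ X) {κ : Type*} [Finite κ] {W : κ → Sh J}
    {w : ∀ k, W k ⟶ T} (hw : Cov w) (h : ∀ k, IsQC (equalizer (w k ≫ a) (w k ≫ b))) : IsQC (equalizer a b) := by
  refine isQC_of_finite_cov (cov_pullback' hw (equalizer.ι a b)) fun k => isQC_of_iso
    { hom := pullback.lift (equalizer.lift (equalizer.ι (w k ≫ a) (w k ≫ b) ≫ w k)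
        (by simpa using equalizer.condition (w k ≫ a) (w k ≫ b))) (equalizer.ι _ _) (by simp)
      inv := equalizer.lift (pullback.snd _ _) (by
        rw [← pullback.condition_assoc, ← pullback.condition_assoc, equalizer.condition])
      hom_inv_id := equalizer.hom_ext (by simp)
      inv_hom_id := pullback.hom_ext (equalizer.hom_ext (by simp [pullback.condition])) (by simp) } (h k)

/-- A finite refinement of a cover of a quasi-compact object by members of a generating class. -/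
theorem exists_refinement {P : Sh J → Prop}
    (hgen : ∀ X : Sh J, ∃ (ι : Type u) (F : ι → Sh J) (π : ∀ i, F i ⟶ X), (∀ i, P (F i)) ∧ Cov π)
    {T : Sh J} (hT : IsQC T) {ι : Type u} {F : ι → Sh J} {π : ∀ i, F i ⟶ T} (hπ : Cov π) :
    ∃ (κ : Type u) (_ : Finite κ) (W : κ → Sh J) (w : ∀ k, W k ⟶ T),
      (∀ k, P (W k)) ∧ Cov w ∧ ∀ k, ∃ (i : ι) (m : W k ⟶ F i), m ≫ π i = w k := by
  choose κ G g hG hg using fun i => hgen (F i)
  obtain ⟨s, hs⟩ := IsQC.exists_finset hT (cov_comp hπ hg)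
  exact ⟨↥s, inferInstance, fun k => G k.1.1 k.1.2, fun k => g k.1.1 k.1.2 ≫ π k.1.1,
    fun k => hG k.1.1 k.1.2, hs, fun k => ⟨k.1.1, g k.1.1 k.1.2, rfl⟩⟩

theorem exists_cover_of_finite {P : Sh J → Prop}
    (hgen : ∀ X : Sh J, ∃ (ι : Type u) (F : ι → Sh J) (π : ∀ i, F i ⟶ X), (∀ i, P (F i)) ∧ Cov π)
    {T : Sh J} (hT : IsQC T) :
    ∃ (κ : Type u) (_ : Finite κ) (W : κ → Sh J) (w : ∀ k, W k ⟶ T), (∀ k, P (W k)) ∧ Cov w := by
  obtain ⟨ι, F, π, hF, hπ⟩ := hgen T
  obtain ⟨s, hs⟩ := IsQC.exists_finset hT hπ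
  exact ⟨↥s, inferInstance, fun k => F k.1, fun k => π k.1, fun k => hF k.1, hs⟩

theorem gen_of_hasQCGenerators (h : HasQCGenerators J) (X : Sh J) :
    ∃ (ι : Type u) (F : ι → Sh J) (π : ∀ i, F i ⟶ X), (∀ i, IsQC (F i)) ∧ Cov π :=
  let ⟨ι, F, π, hF, hπ⟩ := h X; ⟨ι, F, π, hF, (cov_iff_epi π).2 hπ⟩

theorem gen_of_hasCoherentGenerators (h : HasCoherentGenerators J) (X : Sh J) :
    ∃ (ι : Type u) (F : ι → Sh J) (π : ∀ i, F i ⟶ X), (∀ i, IsCoherent (F i)) ∧ Cov π :=
  let ⟨ι, F, π, hF, hπ⟩ := h X; ⟨ι, F, π, hF, (cov_iff_epi π).2 hπ⟩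

theorem hasQCGenerators_of_gen {P : Sh J → Prop} (hP : ∀ X, P X → IsQC X)
    (hgen : ∀ X : Sh J, ∃ (ι : Type u) (F : ι → Sh J) (π : ∀ i, F i ⟶ X), (∀ i, P (F i)) ∧ Cov π) :
    HasQCGenerators J := fun X =>
  let ⟨ι, F, π, hF, hπ⟩ := hgen X; ⟨ι, F, π, fun i => hP _ (hF i), (cov_iff_epi π).1 hπ⟩

/-- Quasi-separatedness can be checked on pairs of maps from a generating class. -/
theorem isQS_of_gen {P : Sh J → Prop}
    (hgen : ∀ X : Sh J, ∃ (ι : Type u) (F : ι → Sh J) (π : ∀ i, F i ⟶ X), (∀ i, P (F i)) ∧ Cov π)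
    {Y : Sh J} (h : ∀ {A B : Sh J} (a : A ⟶ Y) (b : B ⟶ Y), P A → P B → IsQC (pullback a b)) : IsQS Y := by
  intro A B a b hA hB
  obtain ⟨κ, _, W, w, hW, hw⟩ := exists_cover_of_finite hgen hA
  obtain ⟨κ', _, W', w', hW', hw'⟩ := exists_cover_of_finite hgen hB
  refine isQC_of_iso (pullbackSymmetry b a) (isQC_pullback_of_cov b a hw fun k => ?_)
  refine isQC_of_iso (pullbackSymmetry (w k ≫ a) b) (isQC_pullback_of_cov _ _ hw' fun k' => ?_)
  exact h _ _ (hW k) (hW' k')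

/-- Quasi-compactness of a morphism can be checked on a generating class of quasi-compact objects. -/
theorem isQCHom_of_gen {P : Sh J → Prop}
    (hgen : ∀ X : Sh J, ∃ (ι : Type u) (F : ι → Sh J) (π : ∀ i, F i ⟶ X), (∀ i, P (F i)) ∧ Cov π)
    {X Y : Sh J} {f : X ⟶ Y} (h : ∀ {A : Sh J} (s : A ⟶ Y), P A → IsQC (pullback f s)) : IsQCHom f := by
  intro T s hT
  obtain ⟨κ, _, W, w, hW, hw⟩ := exists_cover_of_finite hgen hT
  exact isQC_pullback_of_cov f s hw fun k => h _ (hW k)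

/-- Quasi-separatedness of a morphism can be checked on pairs from a generating class. -/
theorem isQSHom_of_gen {P : Sh J → Prop}
    (hgen : ∀ X : Sh J, ∃ (ι : Type u) (F : ι → Sh J) (π : ∀ i, F i ⟶ X), (∀ i, P (F i)) ∧ Cov π)
    {X Y : Sh J} {f : X ⟶ Y}
    (h : ∀ {A : Sh J} (a b : A ⟶ X), P A → a ≫ f = b ≫ f → IsQC (equalizer a b)) : IsQSHom f := by
  refine isQSHom_iff.2 fun {T} a b e hT => ?_
  obtain ⟨κ, _, W, w, hW, hw⟩ := exists_cover_of_finite hgen hT
  exact isQC_equalizer_of_cov a b hw fun k => h _ _ (hW k) (by simp [e])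

end Groth.Agent.ToposFinLib
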